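import Cfsg.Agent.Lib.CosetEnum.Index

/-!
Coset enumeration deductions replayed in a central extension, where every relator word has a central value:
each fact carries an exponent vector for those values, stored as a packed vector of biased 64-bit digits.
-/

set_option autoImplicit false

namespace Cfsg.Agent.Lib.ThMult

open Cfsg.Agent.Lib.CosetEnum
open scoped IsMulCommutative

/-- The `j`-th digit of 64 bits. -/
def fdig : ℕ → ℕ → ℕ
  | 0, n => n % 18446744073709551616
  | j + 1, n => fdig j (n / 18446744073709551616)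

theorem fdig_zero (j : ℕ) : fdig j 0 = 0 := by
  induction j with
  | zero => rfl
  | succ j ih => simpa [fdig] using ih

theorem fdig_add (j : ℕ) : ∀ a b : ℕ, (∀ i ≤ j, fdig i a + fdig i b < 18446744073709551616) →
    fdig j (a + b) = fdig j a + fdig j b := by
  induction j with
  | zero =>
    intro a b h
    have h0 := h 0 le_rfl
    simp only [fdig] at h0 ⊢
    omega
  | succ j ih =>
    intro a b h
    have h0 := h 0 (Nat.zero_le _)
    simp only [fdig] at h0 ⊢
    rw [show (a + b) / 18446744073709551616 =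
      a / 18446744073709551616 + b / 18446744073709551616 by omega]
    exact ih _ _ fun i hi => h (i + 1) (by omega)

/-- The packed vector with all `m` digits equal to `c`. -/
def ones (c : ℕ) : ℕ → ℕ
  | 0 => 0
  | m + 1 => ones c m * 18446744073709551616 + c

theorem fdig_zero_eq (n : ℕ) : fdig 0 n = n % 18446744073709551616 := by rw [fdig]

theorem fdig_succ_eq (j n : ℕ) : fdig (j + 1) n = fdig j (n / 18446744073709551616) := by rw [fdig]

theorem ones_succ (c m : ℕ) : ones c (m + 1) = ones c m * 18446744073709551616 + c := by rw [ones]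

theorem div_push (a c M : ℕ) (hc : c < M) : (a * M + c) / M = a := by
  rw [Nat.mul_comm, Nat.mul_add_div (by omega), Nat.div_eq_of_lt hc, Nat.add_zero]

theorem mod_push (a c M : ℕ) (hc : c < M) : (a * M + c) % M = c := by
  rw [Nat.add_comm, Nat.add_mul_mod_self_right, Nat.mod_eq_of_lt hc]

theorem fdig_ones {c : ℕ} (hc : c < 18446744073709551616) : ∀ {m j : ℕ}, j < m → fdig j (ones c m) = c := by
  intro m
  induction m with
  | zero => intro j h; omega
  | succ m ih =>
    intro j h
    cases j with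
    | zero => rw [ones_succ, fdig_zero_eq, mod_push _ _ _ hc]
    | succ j => rw [ones_succ, fdig_succ_eq, div_push _ _ _ hc]; exact ih (by omega)

/-- The bias of the digits. -/
abbrev bias : ℕ := 4503599627370496

/-- Small digits: less than `2 ^ 56`. -/
noncomputable def smallDigits : ℕ → ℕ → Bool :=
  fun m => Nat.rec (motive := fun _ => ℕ → Bool) (fun _ => true)
    (fun _ ih n => Nat.blt (Nat.mod n 18446744073709551616) 72057594037927936 &&
      force (Nat.div n 18446744073709551616) ih) m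

theorem smallDigits_spec : ∀ {m n : ℕ}, smallDigits m n = true → ∀ j < m, fdig j n < 72057594037927936 := by
  intro m
  induction m with
  | zero => intro n _ j h; omega
  | succ m ih =>
    intro n h j hj
    change (Nat.blt (Nat.mod n 18446744073709551616) 72057594037927936 &&
      force (Nat.div n 18446744073709551616) (smallDigits m)) = true at h
    rw [Bool.and_eq_true, Nat.blt_eq, force_eq] at h
    cases j with
    | zero => exact h.1
    | succ j => exact ih h.2 j (by omega)

/-- Labels of the facts and of the relator words. -/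
structure LData where
  d : Data
  m : ℕ
  /-- packed label of each fact -/
  L : PTree
  /-- packed vector of each word `< d.nR` -/
  RV : PTree

variable (e : LData)

noncomputable def LData.lab (k : ℕ) : ℕ := getWord e.L k

noncomputable def LData.rvec (w : ℕ) : ℕ :=
  Bool.rec (ones bias e.m) (getWord e.RV w) (Nat.blt w e.d.nR)

/-- The running sums of a walk: positive labels, negative labels, and their numbers. -/
structure Acc where
  pos : ℕ
  neg : ℕ
  np : ℕ
  nn : ℕ

/-- Follow signed fact references, adding up the labels. -/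
noncomputable def walkL (k n : ℕ) : ℕ → ℕ → ℕ → Acc → (ℕ → ℕ → ℕ → Acc → Bool) → Bool :=
  Nat.rec (motive := fun _ => ℕ → ℕ → ℕ → Acc → (ℕ → ℕ → ℕ → Acc → Bool) → Bool)
    (fun cur acc S A cont => cont cur acc S A)
    (fun _ ih cur acc S A cont =>
      force (Nat.mod S 4294967296) fun r =>
      force (Nat.shiftRight S 32) fun S' =>
      force (Nat.shiftRight r 1) fun id =>
      Nat.blt id k && force (e.d.fact id) fun x =>
      force (fu x) fun u => force (fv x) fun v => force (fg x) fun g =>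
      Nat.ble g e.d.K && smallDigits e.m (e.lab id) &&
      Bool.rec
        (Nat.beq v cur && force (push e.d.K acc (invL e.d.IV g)) fun acc' =>
          force (Nat.add A.neg (e.lab id)) fun s => force (Nat.add A.nn 1) fun c =>
          ih u acc' S' ⟨A.pos, s, A.np, c⟩ cont)
        (Nat.beq u cur && force (push e.d.K acc g) fun acc' =>
          force (Nat.add A.pos (e.lab id)) fun s => force (Nat.add A.np 1) fun c =>
          ih v acc' S' ⟨s, A.neg, c, A.nn⟩ cont)
        (Nat.beq (Nat.mod r 2) 0)) n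

/-- The label equation: `x + pos + nn * bias = y + neg + np * bias`. -/
noncomputable def balance (x y : ℕ) (A : Acc) : Bool :=
  smallDigits e.m x && smallDigits e.m y &&
  Nat.blt (Nat.add A.np A.nn) 200 &&
  Nat.beq (Nat.add (Nat.add x A.pos) (ones (Nat.mul A.nn bias) e.m))
    (Nat.add (Nat.add y A.neg) (ones (Nat.mul A.np bias) e.m))

/-- Check the justification of fact `k` together with its label. -/
noncomputable def stepL (k S : ℕ) (cont : ℕ → Bool) : Bool :=
  force (Nat.mod S 4294967296) fun s =>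
  force (Nat.mod (Nat.shiftRight S 32) 4294967296) fun w =>
  force (Nat.mod (Nat.shiftRight S 64) 4294967296) fun al =>
  force (Nat.mod (Nat.shiftRight S 96) 4294967296) fun bl =>
  force (Nat.shiftRight S 128) fun S1 =>
  force (e.d.fact k) fun x =>
  force (fu x) fun u => force (fv x) fun v => force (fg x) fun g =>
  Nat.ble g e.d.K && Nat.blt (Nat.add al bl) 200 &&
  walkL e k al s 1 S1 ⟨0, 0, 0, 0⟩ fun c a S2 A =>
    Nat.beq c u && force (push e.d.K a g) fun a' =>
    walkL e k bl v a' S2 A fun c' a'' S3 A' =>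
      Nat.beq c' s && Nat.beq a'' (getWord e.d.W w) &&
        (Nat.blt w e.d.nR || (Nat.blt w e.d.nW && Nat.beq s 0)) &&
        balance e (e.lab k) (e.rvec w) A' && cont S3

/-- Consecutive steps. -/
noncomputable def stepsL (n : ℕ) : ℕ → ℕ → Bool :=
  Nat.rec (motive := fun _ => ℕ → ℕ → Bool) (fun _ _ => true)
    (fun _ ih k S => stepL e k S fun S' => force (Nat.add k 1) fun k' => ih k' S') n

/-- A list of chunks of steps. -/
noncomputable def chunksL (l : List (ℕ × ℕ)) : ℕ → Bool :=
  List.rec (motive := fun _ => ℕ → Bool) (fun _ => true)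
    (fun c _ ih k => stepsL e c.1 k c.2 && force (Nat.add k c.1) fun k' => ih k') l

/-- Definition facts have label zero. -/
noncomputable def labDefsOK (D : ℕ) : Bool :=
  allBelow D fun k => Nat.beq (e.lab k) (ones bias e.m)

/-- A closed walk (start, word, number of references, references) with its vector. -/
noncomputable def checkRow (M : ℕ) (c : (ℕ × ℕ × ℕ × ℕ) × ℕ) : Bool :=
  Nat.blt c.1.2.2.1 200 && walkL e M c.1.2.2.1 c.1.1 1 c.1.2.2.2 ⟨0, 0, 0, 0⟩ fun c' a _ A =>
    Nat.beq c' c.1.1 && Nat.beq a (getWord e.d.W c.1.2.1) &&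
      (Nat.blt c.1.2.1 e.d.nR || (Nat.blt c.1.2.1 e.d.nW && Nat.beq c.1.1 0)) &&
      balance e c.2 (e.rvec c.1.2.1) A

/-! ### Soundness -/

variable {Γ : Type*} [Group Γ]

/-- The value of an exponent vector. -/
noncomputable def vecVal (z : ℕ → Subgroup.center Γ) (m : ℕ) (ex : ℕ → ℤ) : Γ :=
  ((∏ j ∈ Finset.range m, z j ^ ex j : Subgroup.center Γ) : Γ)

theorem vecVal_zero (z : ℕ → Subgroup.center Γ) (m : ℕ) : vecVal z m (fun _ => 0) = 1 := by
  simp [vecVal]

theorem vecVal_add (z : ℕ → Subgroup.center Γ) (m : ℕ) (a b : ℕ → ℤ) :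
    vecVal z m (fun j => a j + b j) = vecVal z m a * vecVal z m b := by
  simp only [vecVal, zpow_add, Finset.prod_mul_distrib, Subgroup.coe_mul]

theorem vecVal_neg (z : ℕ → Subgroup.center Γ) (m : ℕ) (a : ℕ → ℤ) :
    vecVal z m (fun j => -a j) = (vecVal z m a)⁻¹ := by
  simp only [vecVal, zpow_neg, Finset.prod_inv_distrib, Subgroup.coe_inv]

theorem vecVal_sub (z : ℕ → Subgroup.center Γ) (m : ℕ) (a b : ℕ → ℤ) :
    vecVal z m (fun j => a j - b j) = vecVal z m a * (vecVal z m b)⁻¹ := by
  simp only [sub_eq_add_neg, vecVal_add z m a (fun j => -b j), vecVal_neg]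

theorem vecVal_congr (z : ℕ → Subgroup.center Γ) {m : ℕ} {a b : ℕ → ℤ} (h : ∀ j < m, a j = b j) :
    vecVal z m a = vecVal z m b := by
  unfold vecVal
  rw [Finset.prod_congr rfl fun j hj => by rw [h j (Finset.mem_range.1 hj)]]

theorem vecVal_comm (z : ℕ → Subgroup.center Γ) (m : ℕ) (a : ℕ → ℤ) (x : Γ) :
    x * vecVal z m a = vecVal z m a * x :=
  Subgroup.mem_center_iff.1 (∏ j ∈ Finset.range m, z j ^ a j : Subgroup.center Γ).2 x

/-- The exponents of a packed vector. -/
def expo (n : ℕ) (j : ℕ) : ℤ := (fdig j n : ℤ) - bias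

/-- The exponents of running sums. -/
def accExpo (A : Acc) (j : ℕ) : ℤ :=
  ((fdig j A.pos : ℤ) - A.np * bias) - ((fdig j A.neg : ℤ) - A.nn * bias)

/-- The running sums have few summands. -/
def AccOK (m : ℕ) (A : Acc) : Prop :=
  ∀ j < m, fdig j A.pos ≤ A.np * 72057594037927936 ∧ fdig j A.neg ≤ A.nn * 72057594037927936

/-- Validity in the extension. -/
structure LValid (φ : ℕ → Γ) (H : Subgroup Γ) (z : ℕ → Subgroup.center Γ) : Prop where
  hK : e.d.K < 32
  one : φ e.d.K = 1
  inv : ∀ g ≤ e.d.K, invL e.d.IV g ≤ e.d.K ∧ φ (invL e.d.IV g) = (φ g)⁻¹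
  rel : ∀ w < e.d.nR, ev φ (getWord e.d.W w) = vecVal z e.m (expo (getWord e.RV w))
  sub : ∀ w, e.d.nR ≤ w → w < e.d.nW → ev φ (getWord e.d.W w) ∈ H

/-- Meaning of a labelled fact. -/
def GoodL (D : ℕ) (φ : ℕ → Γ) (H : Subgroup Γ) (z : ℕ → Subgroup.center Γ) (k : ℕ) : Prop :=
  fg (e.d.fact k) ≤ e.d.K ∧
    rep e.d D φ (fu (e.d.fact k)) * φ (fg (e.d.fact k)) * (rep e.d D φ (fv (e.d.fact k)))⁻¹ *
      (vecVal z e.m (expo (e.lab k)))⁻¹ ∈ H

variable {e} {D : ℕ} {φ : ℕ → Γ} {H : Subgroup Γ} {z : ℕ → Subgroup.center Γ}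

theorem push_specL (hV : LValid e φ H z) {a g : ℕ} (ha : 1 ≤ a) (hg : g ≤ e.d.K) :
    1 ≤ push e.d.K a g ∧ ev φ (push e.d.K a g) = ev φ a * φ g := by
  rcases eq_or_lt_of_le hg with rfl | hlt
  · simp [push, hV.one, ha]
  · have : Nat.beq g e.d.K = false := by
      rw [← Bool.not_eq_true, Nat.beq_eq]; omega
    have := hV.hK
    simp only [push, ‹Nat.beq g e.d.K = false›, Nat.add_eq, Nat.mul_eq]
    exact ⟨by omega, ev_push φ ha (by omega)⟩

theorem walkL_succ (k n cur acc S : ℕ) (A : Acc) (cont : ℕ → ℕ → ℕ → Acc → Bool) :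
    walkL e k (n + 1) cur acc S A cont =
      (force (Nat.mod S 4294967296) fun r =>
      force (Nat.shiftRight S 32) fun S' =>
      force (Nat.shiftRight r 1) fun id =>
      Nat.blt id k && force (e.d.fact id) fun x =>
      force (fu x) fun u => force (fv x) fun v => force (fg x) fun g =>
      Nat.ble g e.d.K && smallDigits e.m (e.lab id) &&
      Bool.rec
        (Nat.beq v cur && force (push e.d.K acc (invL e.d.IV g)) fun acc' =>
          force (Nat.add A.neg (e.lab id)) fun s => force (Nat.add A.nn 1) fun c =>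
          walkL e k n u acc' S' ⟨A.pos, s, A.np, c⟩ cont)
        (Nat.beq u cur && force (push e.d.K acc g) fun acc' =>
          force (Nat.add A.pos (e.lab id)) fun s => force (Nat.add A.np 1) fun c =>
          walkL e k n v acc' S' ⟨s, A.neg, c, A.nn⟩ cont)
        (Nat.beq (Nat.mod r 2) 0)) := rfl

theorem comb_neg {b l : Γ} (hb : ∀ y : Γ, y * b = b * y) (hl : ∀ y : Γ, y * l = l * y) (P Q : Γ) :
    P * b⁻¹ * (Q * l⁻¹)⁻¹ = P * Q⁻¹ * (b * l⁻¹)⁻¹ := by
  have hbi : ∀ y : Γ, y * b⁻¹ = b⁻¹ * y := fun y => (Commute.inv_right (hb y) : Commute y b⁻¹)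
  rw [mul_inv_rev, inv_inv, mul_inv_rev, inv_inv, mul_assoc P, mul_assoc P, ← hl Q⁻¹, ← hbi, mul_assoc]

theorem comb_pos {b l : Γ} (hb : ∀ y : Γ, y * b = b * y) (hl : ∀ y : Γ, y * l = l * y) (P Q : Γ) :
    P * b⁻¹ * (Q * l⁻¹) = P * Q * (b * l)⁻¹ := by
  have hbi : ∀ y : Γ, y * b⁻¹ = b⁻¹ * y := fun y => (Commute.inv_right (hb y) : Commute y b⁻¹)
  have hli : ∀ y : Γ, y * l⁻¹ = l⁻¹ * y := fun y => (Commute.inv_right (hl y) : Commute y l⁻¹)
  rw [mul_inv_rev, mul_assoc P, mul_assoc P, ← hbi, mul_assoc]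

theorem walkL_sound (hV : LValid e φ H z) {k : ℕ} (hgood : ∀ i < k, GoodL e D φ H z i) (n : ℕ) :
    ∀ cur acc S A cont, walkL e k n cur acc S A cont = true → A.np + A.nn + n < 256 → AccOK e.m A →
      ∀ X : Γ, 1 ≤ acc →
      X * ev φ acc * (rep e.d D φ cur)⁻¹ * (vecVal z e.m (accExpo A))⁻¹ ∈ H →
      ∃ c a S' A', cont c a S' A' = true ∧ 1 ≤ a ∧ AccOK e.m A' ∧ A'.np + A'.nn = A.np + A.nn + n ∧
        X * ev φ a * (rep e.d D φ c)⁻¹ * (vecVal z e.m (accExpo A'))⁻¹ ∈ H := by
  induction n with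
  | zero =>
    intro cur acc S A cont h _ hA X ha hs
    exact ⟨cur, acc, S, A, h, ha, hA, by omega, hs⟩
  | succ n ih =>
    intro cur acc S A cont h hn hA X ha hs
    simp only [walkL_succ, force_eq, Bool.and_eq_true, Nat.blt_eq, Nat.ble_eq] at h
    obtain ⟨hid, ⟨hgK, hsm⟩, h⟩ := h
    obtain ⟨-, hf⟩ := hgood _ hid
    have hsm' := smallDigits_spec hsm
    set id := Nat.shiftRight (Nat.mod S 4294967296) 1 with hid'
    generalize e.lab id = L at hsm' hf h
    generalize e.d.fact id = x at hgK hf h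
    cases hr : Nat.beq (Nat.mod (Nat.mod S 4294967296) 2) 0
    · rw [hr] at h
      simp only [Bool.and_eq_true, Nat.beq_eq, Nat.add_eq] at h
      obtain ⟨hv, h⟩ := h
      obtain ⟨hiK, hinv⟩ := hV.inv _ hgK
      obtain ⟨h1, h2⟩ := push_specL hV ha hiK
      have hadd : ∀ j < e.m, fdig j (A.neg + L) = fdig j A.neg + fdig j L := fun j hj =>
        fdig_add j _ _ fun i hi => by
          have := (hA i (by omega)).2
          have := hsm' i (by omega)
          have : A.nn * 72057594037927936 ≤ 255 * 72057594037927936 := Nat.mul_le_mul_right _ (by omega)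
          omega
      have hX : X * ev φ (push e.d.K acc (invL e.d.IV (fg x))) * (rep e.d D φ (fu x))⁻¹ *
          (vecVal z e.m (accExpo ⟨A.pos, A.neg + L, A.np, A.nn + 1⟩))⁻¹ ∈ H := by
        rw [h2, hinv]
        rw [← hv] at hs
        have e1 : vecVal z e.m (accExpo ⟨A.pos, A.neg + L, A.np, A.nn + 1⟩) =
            vecVal z e.m (accExpo A) * (vecVal z e.m (expo L))⁻¹ := by
          rw [← vecVal_sub]
          refine vecVal_congr z fun j hj => ?_
          simp only [accExpo, expo, hadd j hj]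
          push_cast
          ring
        rw [e1]
        have hm := H.mul_mem hs (H.inv_mem hf)
        rw [comb_neg (vecVal_comm z _ _) (vecVal_comm z _ _)] at hm
        convert hm using 1
        simp only [mul_inv_rev, inv_inv, mul_assoc, inv_mul_cancel_left]
      obtain ⟨c, a, S', A', hc, ha', hA', hnum, hres⟩ := ih _ _ _ _ cont h (by simp only; omega)
        (fun j hj => ⟨(hA j hj).1, by
          rw [hadd j hj, Nat.add_mul, one_mul]
          have := (hA j hj).2
          have := hsm' j hj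
          omega⟩) X h1 hX
      exact ⟨c, a, S', A', hc, ha', hA', by simp only at hnum; omega, hres⟩
    · rw [hr] at h
      simp only [Bool.and_eq_true, Nat.beq_eq, Nat.add_eq] at h
      obtain ⟨hu, h⟩ := h
      obtain ⟨h1, h2⟩ := push_specL hV ha hgK
      have hadd : ∀ j < e.m, fdig j (A.pos + L) = fdig j A.pos + fdig j L := fun j hj =>
        fdig_add j _ _ fun i hi => by
          have := (hA i (by omega)).1
          have := hsm' i (by omega)
          have : A.np * 72057594037927936 ≤ 255 * 72057594037927936 := Nat.mul_le_mul_right _ (by omega)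
          omega
      have hX : X * ev φ (push e.d.K acc (fg x)) * (rep e.d D φ (fv x))⁻¹ *
          (vecVal z e.m (accExpo ⟨A.pos + L, A.neg, A.np + 1, A.nn⟩))⁻¹ ∈ H := by
        rw [h2]
        rw [← hu] at hs
        have e1 : vecVal z e.m (accExpo ⟨A.pos + L, A.neg, A.np + 1, A.nn⟩) =
            vecVal z e.m (accExpo A) * vecVal z e.m (expo L) := by
          rw [← vecVal_add]
          refine vecVal_congr z fun j hj => ?_
          simp only [accExpo, expo, hadd j hj]
          push_cast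
          ring
        rw [e1]
        have hm := H.mul_mem hs hf
        rw [comb_pos (vecVal_comm z _ _) (vecVal_comm z _ _)] at hm
        convert hm using 1
        simp only [mul_assoc, inv_mul_cancel_left]
      obtain ⟨c, a, S', A', hc, ha', hA', hnum, hres⟩ := ih _ _ _ _ cont h (by simp only; omega)
        (fun j hj => ⟨by
          rw [hadd j hj, Nat.add_mul, one_mul]
          have := (hA j hj).1
          have := hsm' j hj
          omega, (hA j hj).2⟩) X h1 hX
      exact ⟨c, a, S', A', hc, ha', hA', by simp only at hnum; omega, hres⟩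

theorem fdig_lt (j n : ℕ) : fdig j n < 18446744073709551616 := by
  induction j generalizing n with
  | zero => rw [fdig_zero_eq]; exact Nat.mod_lt _ (by omega)
  | succ j ih => rw [fdig_succ_eq]; exact ih _

theorem balance_sound {x y : ℕ} {A : Acc} (hA : AccOK e.m A) (h : balance e x y A = true) :
    ∀ j < e.m, accExpo A j = expo y j - expo x j := by
  simp only [balance, Bool.and_eq_true, Nat.blt_eq, Nat.beq_eq, Nat.add_eq, Nat.mul_eq] at h
  obtain ⟨⟨⟨hx, hy⟩, hn⟩, heq⟩ := h
  have hx' := smallDigits_spec hx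
  have hy' := smallDigits_spec hy
  intro j hj
  have hnp : A.np * 72057594037927936 + A.nn * 72057594037927936 ≤ 199 * 72057594037927936 := by
    rw [← Nat.add_mul]; exact Nat.mul_le_mul_right _ (by omega)
  have hb1 : A.nn * bias < 18446744073709551616 :=
    lt_of_le_of_lt (Nat.mul_le_mul_right _ (by omega : A.nn ≤ 199)) (by norm_num [bias])
  have hb2 : A.np * bias < 18446744073709551616 :=
    lt_of_le_of_lt (Nat.mul_le_mul_right _ (by omega : A.np ≤ 199)) (by norm_num [bias])
  have key : ∀ (p q : ℕ) (c : ℕ), (∀ i < e.m, fdig i p < 72057594037927936) →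
      (∀ i < e.m, fdig i q ≤ 199 * 72057594037927936) → c ≤ 199 * bias →
      fdig j (p + q + ones c e.m) = fdig j p + fdig j q + c := by
    intro p q c hp hq hc
    have hc' : c < 18446744073709551616 := lt_of_le_of_lt hc (by norm_num [bias])
    have h1 : ∀ i ≤ j, fdig i (p + q) = fdig i p + fdig i q := fun i hi =>
      fdig_add i _ _ fun l hl => by
        have := hp l (by omega)
        have := hq l (by omega)
        omega
    rw [fdig_add j _ _ fun i hi => by
      rw [h1 i hi, fdig_ones hc' (by omega : i < e.m)]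
      have := hp i (by omega)
      have := hq i (by omega)
      simp only [bias] at hc
      omega, h1 j le_rfl, fdig_ones hc' hj]
  have e1 := key x A.pos (A.nn * bias) hx' (fun i hi => (hA i hi).1.trans (Nat.mul_le_mul_right _ (by omega)))
    (Nat.mul_le_mul_right _ (by omega))
  have e2 := key y A.neg (A.np * bias) hy' (fun i hi => (hA i hi).2.trans (Nat.mul_le_mul_right _ (by omega)))
    (Nat.mul_le_mul_right _ (by omega))
  rw [heq, e2] at e1
  have e3 : (fdig j y : ℤ) + (fdig j A.neg : ℤ) + (A.np * bias : ℕ) =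
      (fdig j x : ℤ) + (fdig j A.pos : ℤ) + (A.nn * bias : ℕ) := by exact_mod_cast e1
  push_cast at e3
  simp only [accExpo, expo, bias]
  push_cast
  linarith

theorem good_defsL (hD : defsOK e.d D = true) (hL : labDefsOK e D = true) {k : ℕ} (hk : k < D) :
    GoodL e D φ H z k := by
  have h := allBelow_iff.1 hD k hk
  simp only [force_eq, Bool.and_eq_true, Nat.blt_eq, Nat.beq_eq] at h
  obtain ⟨⟨h1, h2⟩, h3⟩ := h
  have hl := allBelow_iff.1 hL k hk
  rw [Nat.beq_eq] at hl
  refine ⟨h3.le, ?_⟩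
  have hv : vecVal z e.m (expo (e.lab k)) = 1 := by
    rw [hl, ← vecVal_zero z e.m]
    refine vecVal_congr z fun j hj => ?_
    simp [expo, fdig_ones (show bias < 18446744073709551616 by norm_num [bias]) hj]
  rw [hv, inv_one, mul_one]
  conv =>
    arg 2
    arg 2
    rw [h2, rep, if_pos ⟨k.succ_pos, hk, by simpa using h1⟩]
  simp only [Nat.succ_sub_one, mul_inv_cancel, H.one_mem]

theorem word_spec (hV : LValid e φ H z) {w s : ℕ}
    (hw : w < e.d.nR ∨ (w < e.d.nW ∧ s = 0)) :
    rep e.d D φ s * ev φ (getWord e.d.W w) * (rep e.d D φ s)⁻¹ *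
      (vecVal z e.m (expo (e.rvec w)))⁻¹ ∈ H := by
  by_cases hlt : w < e.d.nR
  · have : Nat.blt w e.d.nR = true := by rw [Nat.blt_eq]; exact hlt
    rw [hV.rel w hlt, LData.rvec, this, vecVal_comm z _ _ (rep e.d D φ s)]
    simp
  · obtain ⟨hw', rfl⟩ := hw.resolve_left hlt
    have : Nat.blt w e.d.nR = false := by rw [← Bool.not_eq_true, Nat.blt_eq]; exact hlt
    have hv : vecVal z e.m (expo (e.rvec w)) = 1 := by
      rw [LData.rvec, this, ← vecVal_zero z e.m]
      refine vecVal_congr z fun j hj => ?_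
      simp [expo, fdig_ones (show bias < 18446744073709551616 by norm_num [bias]) hj]
    rw [rep_zero, hv]
    simpa using hV.sub w (not_lt.1 hlt) hw'

theorem start_spec (X : Γ) :
    AccOK e.m ⟨0, 0, 0, 0⟩ ∧ X * X⁻¹ * (vecVal z e.m (accExpo ⟨0, 0, 0, 0⟩))⁻¹ ∈ H := by
  refine ⟨fun j _ => by simp [fdig_zero], ?_⟩
  rw [vecVal_congr z (b := fun _ => 0) fun j _ => by simp [accExpo, fdig_zero], vecVal_zero]
  simp [H.one_mem]

theorem step_algebra {p q l : Γ} (hp : ∀ y : Γ, y * p = p * y) (hl : ∀ y : Γ, y * l = l * y)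
    (S A U W V g : Γ) :
    (S * A * U⁻¹ * p⁻¹)⁻¹ * (S * W * S⁻¹ * q⁻¹) * (V * (A * g)⁻¹ * p * W * S⁻¹ * (q * l⁻¹)⁻¹)⁻¹ =
      U * g * V⁻¹ * l⁻¹ := by
  have hli : ∀ y : Γ, y * l⁻¹ = l⁻¹ * y := fun y => (Commute.inv_right (hl y) : Commute y l⁻¹)
  have hpi : ∀ y : Γ, y * p⁻¹ = p⁻¹ * y := fun y => (Commute.inv_right (hp y) : Commute y p⁻¹)
  have hc : ∀ y : Γ, y * (l⁻¹ * p⁻¹) = (l⁻¹ * p⁻¹) * y := fun y =>
    (Commute.mul_right (hli y) (hpi y) : Commute y (l⁻¹ * p⁻¹))
  have c1 : (W * S⁻¹) * l⁻¹ * (W * S⁻¹)⁻¹ = l⁻¹ := by rw [hli, mul_inv_cancel_right]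
  have c2 : A⁻¹ * (l⁻¹ * p⁻¹) * A = l⁻¹ * p⁻¹ := by rw [hc A⁻¹, inv_mul_cancel_right]
  calc (S * A * U⁻¹ * p⁻¹)⁻¹ * (S * W * S⁻¹ * q⁻¹) * (V * (A * g)⁻¹ * p * W * S⁻¹ * (q * l⁻¹)⁻¹)⁻¹
      = p * U * A⁻¹ * ((W * S⁻¹) * l⁻¹ * (W * S⁻¹)⁻¹) * p⁻¹ * A * g * V⁻¹ := by group
    _ = p * U * (A⁻¹ * (l⁻¹ * p⁻¹) * A) * g * V⁻¹ := by rw [c1]; group
    _ = p * U * ((l⁻¹ * p⁻¹) * (g * V⁻¹)) := by rw [c2]; group
    _ = (U * g * V⁻¹) * (p * (l⁻¹ * p⁻¹)) := by
      rw [← hc (g * V⁻¹), ← hp U]
      simp only [mul_assoc]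
      rw [← mul_assoc g, ← mul_assoc p (g * V⁻¹), ← hp (g * V⁻¹)]
      group
    _ = U * g * V⁻¹ * l⁻¹ := by rw [hc p, inv_mul_cancel_right]

theorem stepL_sound (hV : LValid e φ H z) {k S : ℕ} {cont : ℕ → Bool}
    (hgood : ∀ i < k, GoodL e D φ H z i) (h : stepL e k S cont = true) :
    GoodL e D φ H z k ∧ ∃ S', cont S' = true := by
  simp only [stepL, force_eq, Bool.and_eq_true, Nat.ble_eq, Nat.blt_eq, Nat.add_eq] at h
  obtain ⟨⟨hg, hlen⟩, h⟩ := h
  generalize hs' : Nat.mod S 4294967296 = s at h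
  generalize hw' : Nat.mod (Nat.shiftRight S 32) 4294967296 = w at h
  generalize Nat.mod (Nat.shiftRight S 64) 4294967296 = al at h hlen
  generalize Nat.mod (Nat.shiftRight S 96) 4294967296 = bl at h hlen
  obtain ⟨hA0, h0⟩ := start_spec (e := e) (z := z) (H := H) (rep e.d D φ s)
  obtain ⟨c, a, S2, A, h, ha, hA, hnum, hm⟩ := walkL_sound hV hgood al _ _ _ _ _ h (by simp only; omega) hA0
    (rep e.d D φ s) le_rfl (by rw [ev, if_pos le_rfl, mul_one]; exact h0)
  simp only [Bool.and_eq_true, Nat.beq_eq] at h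
  obtain ⟨hc, h⟩ := h
  subst hc
  obtain ⟨h1, h2⟩ := push_specL hV ha hg
  set x := e.d.fact k with hx
  set la := vecVal z e.m (accExpo A) with hla
  -- the second walk starts after the fact
  have hB0 : (rep e.d D φ (fv x) * (ev φ (push e.d.K a (fg x)))⁻¹ * la) * ev φ (push e.d.K a (fg x)) *
      (rep e.d D φ (fv x))⁻¹ * la⁻¹ ∈ H := by
    have hc := vecVal_comm z e.m (accExpo A)
    rw [mul_assoc _ la, ← hc, ← mul_assoc, inv_mul_cancel_right,
      mul_assoc (rep e.d D φ (fv x)) la, ← hc, ← mul_assoc, mul_inv_cancel, one_mul, mul_inv_cancel]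
    exact H.one_mem
  obtain ⟨c', a'', S3, A', h, -, hA', hnum', hC⟩ := walkL_sound hV hgood bl _ _ _ _ _ h
    (by simp only at hnum; omega) hA _ h1 hB0
  simp only [Bool.and_eq_true, Bool.or_eq_true, Nat.beq_eq, Nat.blt_eq] at h
  obtain ⟨⟨⟨⟨hc', ha''⟩, hw⟩, hbal⟩, hcont⟩ := h
  subst hc'
  refine ⟨⟨hg, ?_⟩, S3, hcont⟩
  rw [← hx]
  have hW := word_spec (D := D) (s := c') hV hw
  rw [← ha''] at hW
  have hbal' := balance_sound hA' hbal
  have e1 : vecVal z e.m (accExpo A') =
      vecVal z e.m (expo (e.rvec w)) * (vecVal z e.m (expo (e.lab k)))⁻¹ := by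
    rw [← vecVal_sub]; exact vecVal_congr z hbal'
  rw [e1, hla] at hC
  have hm' := H.mul_mem (H.mul_mem (H.inv_mem hm) hW) (H.inv_mem hC)
  rw [h2] at hm'
  rw [hla] at hm'
  have hca := vecVal_comm z e.m (accExpo A)
  have hcr := vecVal_comm z e.m (expo (e.rvec w))
  have hcl := vecVal_comm z e.m (expo (e.lab k))
  generalize vecVal z e.m (accExpo A) = p at hm' hca
  generalize vecVal z e.m (expo (e.rvec w)) = q at hm' hcr
  generalize vecVal z e.m (expo (e.lab k)) = l at hm' hcl
  convert hm' using 1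
  exact (step_algebra hca hcl _ _ _ _ _ _).symm

theorem stepsL_sound (hV : LValid e φ H z) (n : ℕ) : ∀ k S, stepsL e n k S = true →
    (∀ i < k, GoodL e D φ H z i) → ∀ i < k + n, GoodL e D φ H z i := by
  induction n with
  | zero => intro k S _ hg i hi; exact hg i hi
  | succ n ih =>
    intro k S h hg i hi
    change stepL e k S (fun S' => force (Nat.add k 1) fun k' => stepsL e n k' S') = true at h
    obtain ⟨hk, S', h'⟩ := stepL_sound hV hg h
    rw [force_eq] at h'
    refine ih (k + 1) S' h' (fun j hj => ?_) i (by omega)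
    rcases Nat.lt_succ_iff_lt_or_eq.1 hj with hj | rfl
    · exact hg j hj
    · exact hk

theorem chunksL_sound (hV : LValid e φ H z) (l : List (ℕ × ℕ)) : ∀ {k k' : ℕ}, chunksL e l k = true →
    k' = k + chunksLen l → (∀ i < k, GoodL e D φ H z i) → ∀ i < k', GoodL e D φ H z i := by
  induction l with
  | nil =>
    intro k k' _ hk hg i hi
    have : k' = k := hk
    exact hg i (by omega)
  | cons c l ih =>
    intro k k' h hk hg
    change (stepsL e c.1 k c.2 && force (Nat.add k c.1) fun q => chunksL e l q) = true at h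
    simp only [force_eq, Bool.and_eq_true] at h
    refine ih h.2 ?_ (stepsL_sound hV c.1 k c.2 h.1 hg)
    rw [hk, chunksLen_cons, Nat.add_eq, Nat.add_assoc]

/-- A checked closed walk gives an element of the values lying in the subgroup. -/
theorem checkRow_sound (hV : LValid e φ H z) {M : ℕ} (hgood : ∀ i < M, GoodL e D φ H z i)
    {c : (ℕ × ℕ × ℕ × ℕ) × ℕ} (h : checkRow e M c = true) : vecVal z e.m (expo c.2) ∈ H := by
  obtain ⟨⟨s, w, n, S⟩, y⟩ := c
  simp only [checkRow, Bool.and_eq_true, Nat.blt_eq] at h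
  obtain ⟨hn, h⟩ := h
  obtain ⟨hA0, h0⟩ := start_spec (e := e) (z := z) (H := H) (rep e.d D φ s)
  obtain ⟨c, a, S2, A, h, -, hA, -, hm⟩ := walkL_sound hV hgood n _ _ _ _ _ h (by simp only; omega) hA0
    (rep e.d D φ s) le_rfl (by rw [ev, if_pos le_rfl, mul_one]; exact h0)
  simp only [Bool.and_eq_true, Bool.or_eq_true, Nat.beq_eq, Nat.blt_eq] at h
  obtain ⟨⟨⟨hc, rfl⟩, hw⟩, hbal⟩ := h
  subst hc
  have hW := word_spec (D := D) (s := c) hV hw
  have e1 : vecVal z e.m (accExpo A) =
      vecVal z e.m (expo (e.rvec w)) * (vecVal z e.m (expo y))⁻¹ := by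
    rw [← vecVal_sub]; exact vecVal_congr z (balance_sound hA hbal)
  rw [e1] at hm
  have hm' := H.mul_mem (H.inv_mem hW) hm
  have hcr := vecVal_comm z e.m (expo (e.rvec w))
  have hcy := vecVal_comm z e.m (expo y)
  generalize vecVal z e.m (expo (e.rvec w)) = q at hm' hcr
  generalize vecVal z e.m (expo y) = l at hm' hcy
  generalize rep e.d D φ c * ev φ (getWord e.d.W w) * (rep e.d D φ c)⁻¹ = x at hm'
  convert hm' using 1
  rw [mul_inv_rev, inv_inv, mul_inv_rev, inv_inv]
  have : q * x⁻¹ * (x * (l * q⁻¹)) = q * l * q⁻¹ := by group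
  rw [this, hcy q, mul_inv_cancel_right]

/-- A walk from the base vertex back to itself spelling a given packed word, with its vector. -/
noncomputable def checkWord (e : LData) (M : ℕ) (c : (ℕ × ℕ × ℕ) × ℕ) : Bool :=
  Nat.blt c.1.2.1 200 && walkL e M c.1.2.1 0 1 c.1.2.2 ⟨0, 0, 0, 0⟩ fun c' a _ A =>
    Nat.beq c' 0 && Nat.beq a c.1.1 && balance e c.2 (ones bias e.m) A

theorem checkWord_sound (hV : LValid e φ H z) {M : ℕ} (hgood : ∀ i < M, GoodL e D φ H z i)
    {c : (ℕ × ℕ × ℕ) × ℕ} (h : checkWord e M c = true) :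
    ev φ c.1.1 * vecVal z e.m (expo c.2) ∈ H := by
  obtain ⟨⟨w, n, S⟩, y⟩ := c
  simp only [checkWord, Bool.and_eq_true, Nat.blt_eq] at h
  obtain ⟨hn, h⟩ := h
  obtain ⟨hA0, h0⟩ := start_spec (e := e) (z := z) (H := H) (1 : Γ)
  obtain ⟨c, a, S2, A, h, -, hA, -, hm⟩ := walkL_sound hV hgood n _ _ _ _ _ h (by simp only; omega) hA0
    (1 : Γ) le_rfl (by rw [ev, if_pos le_rfl, mul_one, rep_zero]; exact h0)
  simp only [Bool.and_eq_true, Nat.beq_eq] at h
  obtain ⟨⟨hc, rfl⟩, hbal⟩ := h
  subst hc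
  have e1 : vecVal z e.m (accExpo A) = (vecVal z e.m (expo y))⁻¹ := by
    rw [← vecVal_neg]
    refine vecVal_congr z fun j hj => ?_
    rw [balance_sound hA hbal j hj]
    simp [expo, fdig_ones (show bias < 18446744073709551616 by norm_num [bias]) hj]
  rw [e1, inv_inv, rep_zero, inv_one, mul_one, one_mul] at hm
  exact hm

end Cfsg.Agent.Lib.ThMult
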