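import Cfsg.Agent.Lib.ThMult.Lab
import Cfsg.Agent.Lib.ThMult.Combos
import Cfsg.Agent.Lib.ThP.ToTh

/-!
Lifts of the generators of the presented Thompson group in a central extension: values of words, shifts,
and the conditions making a labelled certificate applicable.
-/

set_option autoImplicit false
set_option maxRecDepth 20000

namespace Cfsg.Agent.Lib.ThMult

open Cfsg.Agent.Lib.CosetEnum
open scoped IsMulCommutative

/-- The generators `a, b, c, d, e, s, t, u`. -/
def gen8 (i : ℕ) : Cfsg.Spor.Th.Gen :=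
  [Cfsg.Spor.Th.Gen.a, .b, .c, .d, .e, .s, .t, .u].getD i .u

/-- The free group element of a letter list. -/
def gword (l : List ℕ) : FreeGroup Cfsg.Spor.Th.Gen :=
  FreeGroup.mk (l.map fun g => (gen8 (g / 2), decide (g % 2 = 0)))

theorem relators_to_extra : ∀ j < 39, gword (relators.getD j []) ∈ Cfsg.Spor.Th.extra := by
  decide +kernel

theorem extra_to_relators : ∀ r ∈ Cfsg.Spor.Th.extra, ∃ j ∈ List.range 39,
    r = gword (relators.getD j []) := by
  decide +kernel

theorem relators_lt : ∀ l ∈ relators, ∀ g ∈ l, g < 16 := by decide +kernel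

theorem relators_take : ∀ j < 27, relators.getD j [] = Cfsg.Agent.Lib.ThP.relWords.getD j [] := by
  decide +kernel

theorem relWords_length : Cfsg.Agent.Lib.ThP.relWords.length = 27 := by decide +kernel

variable {Γ : Type} [Group Γ]

/-- The letters. -/
def lphi (x : ℕ → Γ) (g : ℕ) : Γ := if g % 2 = 0 then x (g / 2) else (x (g / 2))⁻¹

/-- The value of a word. -/
def wval (x : ℕ → Γ) (l : List ℕ) : Γ := (l.map (lphi x)).prod

/-- The value of a relator. -/
def rval (x : ℕ → Γ) (j : ℕ) : Γ := wval x (relators.getD j [])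

theorem wval_cons (x : ℕ → Γ) (g : ℕ) (l : List ℕ) : wval x (g :: l) = lphi x g * wval x l := by
  simp [wval]

theorem wval_append (x : ℕ → Γ) (l l' : List ℕ) : wval x (l ++ l') = wval x l * wval x l' := by
  simp [wval]

theorem lift_gword {α : Type*} [Group α] (f : Cfsg.Spor.Th.Gen → α) (l : List ℕ) :
    FreeGroup.lift f (gword l) =
      (l.map fun g => if g % 2 = 0 then f (gen8 (g / 2)) else (f (gen8 (g / 2)))⁻¹).prod := by
  rw [gword, FreeGroup.lift_mk, List.map_map]
  congr 1
  refine List.map_congr_left fun g _ => ?_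
  rcases Nat.mod_two_eq_zero_or_one g with h | h <;> simp [h]

/-- The images of the generators in the presented group. -/
def th (i : ℕ) : Cfsg.Spor.Th := PresentedGroup.of (gen8 i)

theorem wval_th (l : List ℕ) : wval th l = PresentedGroup.mk Cfsg.Agent.Lib.ThP.thRels (gword l) := by
  have h : (FreeGroup.lift fun g => (PresentedGroup.of g : Cfsg.Spor.Th)) =
      PresentedGroup.mk Cfsg.Agent.Lib.ThP.thRels :=
    FreeGroup.ext_hom _ _ fun g => by simp [PresentedGroup.of]
  rw [← h, lift_gword]
  rfl

theorem rval_th {j : ℕ} (hj : j < 39) : rval th j = 1 := by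
  rw [rval, wval_th]
  exact PresentedGroup.one_of_mem (Set.mem_union_right _ (relators_to_extra j hj))

theorem map_wval {Δ : Type} [Group Δ] (σ : Γ →* Δ) (x : ℕ → Γ) (l : List ℕ) :
    σ (wval x l) = wval (fun i => σ (x i)) l := by
  rw [wval, map_list_prod, wval, List.map_map]
  congr 1
  refine List.map_congr_left fun g _ => ?_
  simp only [Function.comp_apply, lphi]
  split_ifs <;> simp

theorem wval_congr {x y : ℕ → Γ} {l : List ℕ} (hl : ∀ g ∈ l, g < 16) (h : ∀ i < 8, x i = y i) :
    wval x l = wval y l := by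
  unfold wval
  congr 1
  refine List.map_congr_left fun g hg => ?_
  have := hl g hg
  simp only [lphi, h _ (by omega : g / 2 < 8)]

variable (σ : Γ →* Cfsg.Spor.Th)

/-- Lifts of the generators. -/
def IsLift (x : ℕ → Γ) : Prop := ∀ i < 8, σ (x i) = th i

theorem relators_getD_lt (j : ℕ) : ∀ g ∈ relators.getD j [], g < 16 := by
  intro g hg
  rcases lt_or_ge j relators.length with h | h
  · rw [List.getD_eq_getElem _ _ h] at hg
    exact relators_lt _ (List.getElem_mem h) g hg
  · rw [List.getD_eq_default _ _ h] at hg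
    simp at hg

theorem IsLift.map_wval {x : ℕ → Γ} (hx : IsLift σ x) {l : List ℕ} (hl : ∀ g ∈ l, g < 16) :
    σ (wval x l) = wval th l := by
  rw [ThMult.map_wval]
  exact wval_congr hl hx

theorem IsLift.rval_mem {x : ℕ → Γ} (hx : IsLift σ x) {j : ℕ} (hj : j < 39) : rval x j ∈ σ.ker := by
  rw [MonoidHom.mem_ker, rval, hx.map_wval σ (relators_getD_lt j)]
  exact rval_th hj

/-- The exponent sum of a generator. -/
def expSum (i : ℕ) : List ℕ → ℤ
  | [] => 0
  | g :: l => (if g / 2 = i then (if g % 2 = 0 then 1 else -1) else 0) + expSum i l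

/-- The effect of a central shift of the generators. -/
def shiftVal (c : ℕ → Subgroup.center Γ) (l : List ℕ) : Subgroup.center Γ :=
  ∏ i ∈ Finset.range 8, c i ^ expSum i l

theorem wval_shift (x : ℕ → Γ) (c : ℕ → Subgroup.center Γ) :
    ∀ l : List ℕ, (∀ g ∈ l, g < 16) →
      wval (fun i => x i * (c i : Γ)) l = wval x l * (shiftVal c l : Γ) := by
  intro l
  induction l with
  | nil => intro _; simp [wval, shiftVal, expSum]
  | cons g l ih =>
    intro hl
    have hg : g / 2 < 8 := by have := hl g List.mem_cons_self; omega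
    rw [wval_cons, wval_cons, ih fun a ha => hl a (List.mem_cons_of_mem _ ha)]
    have hcons : shiftVal c (g :: l) =
        c (g / 2) ^ (if g % 2 = 0 then (1 : ℤ) else -1) * shiftVal c l := by
      simp only [shiftVal, expSum, zpow_add, Finset.prod_mul_distrib]
      congr 1
      rw [Finset.prod_eq_single (g / 2)]
      · simp
      · intro i _ hi; simp [Ne.symm hi]
      · intro h; exact absurd (Finset.mem_range.2 hg) h
    rw [hcons]
    have hcomm : ∀ (z : Subgroup.center Γ) (y : Γ), (z : Γ) * y = y * (z : Γ) := fun z y =>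
      (Subgroup.mem_center_iff.1 z.2 y).symm
    simp only [lphi]
    split_ifs
    · simp only [zpow_one, Subgroup.coe_mul]
      rw [mul_assoc (x (g / 2)), ← mul_assoc _ (wval x l), hcomm, mul_assoc (x (g / 2)) (wval x l),
        mul_assoc (wval x l)]
    · simp only [zpow_neg, zpow_one, Subgroup.coe_mul, Subgroup.coe_inv, mul_inv_rev]
      have h1 : ∀ y : Γ, (c (g / 2) : Γ)⁻¹ * y = y * (c (g / 2) : Γ)⁻¹ := fun y => by
        simpa using hcomm (c (g / 2))⁻¹ y
      rw [h1 (x (g / 2))⁻¹, mul_assoc (x (g / 2))⁻¹, ← mul_assoc _ (wval x l), h1,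
        mul_assoc (x (g / 2))⁻¹ (wval x l), mul_assoc (wval x l)]

/-- The letters of a local alphabet. -/
def emPhi (K : ℕ) (emb : List ℕ) (x : ℕ → Γ) (g : ℕ) : Γ :=
  if g = K then 1 else lphi x (emb.getD g 0)

theorem emPhi_prod (K : ℕ) (emb : List ℕ) (x : ℕ → Γ) (l : List ℕ) (hl : ∀ g ∈ l, g < K) :
    (l.map (emPhi K emb x)).prod = wval x (embWord emb l) := by
  rw [wval, embWord, List.map_map]
  congr 1
  refine List.map_congr_left fun g hg => ?_
  have := hl g hg
  simp only [Function.comp_apply, emPhi, if_neg (by omega : ¬ g = K)]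

/-- The checks on one relator word of a certificate. -/
noncomputable def relOK (e : LData) (emb : List ℕ) (unk zero : List ℕ) (w : ℕ) (l : List ℕ) (src : ℕ) :
    Bool :=
  l.all (fun g => Nat.blt g e.d.K) && Nat.beq (getWord e.d.W w) (pack l) &&
  if src < 39 then
    decide (embWord emb l = relators.getD src []) &&
      (if unk.idxOf src < e.m then
        (List.range e.m).all fun j => decide (expo (getWord e.RV w) j = if j = unk.idxOf src then 1 else 0)
      else zero.contains src && (List.range e.m).all fun j => decide (expo (getWord e.RV w) j = 0))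
  else
    ((embWord emb l).isEmpty || match embWord emb l with
      | [g, h] => decide (h = if g % 2 = 0 then g + 1 else g - 1)
      | _ => false) &&
    (List.range e.m).all fun j => decide (expo (getWord e.RV w) j = 0)

/-- The checks on a certificate. -/
noncomputable def levelOKL (e : LData) (emb : List ℕ) (unk zero : List ℕ) (RL HL : List (List ℕ))
    (src : List ℕ) : Bool :=
  Nat.blt e.d.K 32 && Nat.beq (invL e.d.IV e.d.K) e.d.K &&
  Nat.beq e.d.nR RL.length && Nat.beq e.d.nW (RL.length + HL.length) && Nat.beq e.m unk.length &&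
  ((List.range e.d.K).all fun g => Nat.blt (invL e.d.IV g) e.d.K &&
    Nat.beq (emb.getD (invL e.d.IV g) 0) (if emb.getD g 0 % 2 = 0 then emb.getD g 0 + 1 else emb.getD g 0 - 1)) &&
  ((List.range RL.length).all fun w => relOK e emb unk zero w (RL.getD w []) (src.getD w 40)) &&
  ((List.range HL.length).all fun i => (HL.getD i []).all (fun g => Nat.blt g e.d.K) &&
    Nat.beq (getWord e.d.W (RL.length + i)) (pack (HL.getD i [])))

theorem lphi_flip (x : ℕ → Γ) (g : ℕ) :
    lphi x (if g % 2 = 0 then g + 1 else g - 1) = (lphi x g)⁻¹ := by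
  rcases Nat.mod_two_eq_zero_or_one g with h | h
  · simp [lphi, h, (by omega : (g + 1) % 2 = 1), (by omega : (g + 1) / 2 = g / 2)]
  · simp [lphi, h, (by omega : (g - 1) % 2 = 0), (by omega : (g - 1) / 2 = g / 2)]

theorem vecVal_single (z : ℕ → Subgroup.center Γ) {m k : ℕ} (hk : k < m) :
    vecVal z m (fun j => if j = k then 1 else 0) = (z k : Γ) := by
  unfold vecVal
  rw [Finset.prod_eq_single k]
  · simp
  · intro i _ hi; simp [hi]
  · intro h; exact absurd (Finset.mem_range.2 hk) h

theorem lvalid_of_ok {e : LData} {emb unk zero : List ℕ} {RL HL : List (List ℕ)} {src : List ℕ}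
    (h : levelOKL e emb unk zero RL HL src = true) {x : ℕ → Γ} {z : ℕ → Subgroup.center Γ}
    {H : Subgroup Γ} (hz : ∀ k < unk.length, (z k : Γ) = rval x (unk.getD k 0))
    (h0 : ∀ j ∈ zero, rval x j = 1)
    (hH : ∀ l ∈ HL, wval x (embWord emb l) ∈ H) :
    LValid e (emPhi e.d.K emb x) H z := by
  simp only [levelOKL, Bool.and_eq_true, Nat.blt_eq, Nat.beq_eq, List.all_eq_true, List.mem_range] at h
  obtain ⟨⟨⟨⟨⟨⟨⟨hK, hIK⟩, hnR⟩, hnW⟩, hm⟩, hinv⟩, hrel⟩, hsub⟩ := h
  have hev : ∀ l : List ℕ, (∀ g ∈ l, g < e.d.K) →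
      ev (emPhi e.d.K emb x) (pack l) = wval x (embWord emb l) := fun l hl => by
    rw [ev_pack _ _ (fun g hg => by have := hl g hg; omega), emPhi_prod _ _ _ _ hl]
  refine ⟨hK, if_pos rfl, fun g hg => ?_, fun w hw => ?_, fun w h1 h2 => ?_⟩
  · rcases eq_or_lt_of_le hg with rfl | hg
    · rw [hIK]; exact ⟨le_rfl, by simp [emPhi]⟩
    · obtain ⟨h1, h2⟩ := hinv g hg
      refine ⟨h1.le, ?_⟩
      simp only [emPhi, if_neg (by omega : ¬ g = e.d.K), if_neg (by omega : ¬ invL e.d.IV g = e.d.K), h2,
        lphi_flip]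
  · have h := hrel w (by omega)
    simp only [relOK, Bool.and_eq_true, List.all_eq_true, Nat.blt_eq, Nat.beq_eq] at h
    obtain ⟨⟨hl, hW⟩, h⟩ := h
    rw [hW, hev _ hl]
    generalize hlw : RL.getD w [] = l at h hl
    generalize src.getD w 40 = s at h
    split_ifs at h with hs hu
    · simp only [Bool.and_eq_true, decide_eq_true_eq, List.all_eq_true, List.mem_range] at h
      obtain ⟨he, hv⟩ := h
      rw [vecVal_congr z (b := fun j => if j = unk.idxOf s then 1 else 0) hv, vecVal_single z hu,
        hz _ (by omega), he, List.getD_eq_getElem unk _ (by omega : unk.idxOf s < unk.length), List.getElem_idxOf]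
      rfl
    · simp only [Bool.and_eq_true, decide_eq_true_eq, List.all_eq_true, List.mem_range,
        List.contains_iff_mem] at h
      obtain ⟨he, hz0, hv⟩ := h
      rw [he, vecVal_congr z (b := fun _ => 0) hv, vecVal_zero]
      exact h0 _ hz0
    · simp only [Bool.and_eq_true, Bool.or_eq_true, List.isEmpty_iff, decide_eq_true_eq, List.all_eq_true,
        List.mem_range] at h
      obtain ⟨he, hv⟩ := h
      rw [vecVal_congr z (b := fun _ => 0) hv, vecVal_zero]
      rcases he with he | he
      · rw [he]; simp [wval]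
      · generalize embWord emb l = u at he
        match u, he with
        | [g, k], he =>
          simp only [decide_eq_true_eq] at he
          simp [wval, he, lphi_flip]
  · have h := hsub (w - RL.length) (by omega)
    simp only [Nat.add_sub_cancel' (by omega : RL.length ≤ w)] at h
    obtain ⟨hl, hW⟩ := h
    rw [hW, hev _ hl]
    refine hH _ ?_
    rw [List.getD_eq_getElem _ _ (by omega : w - RL.length < HL.length)]
    exact List.getElem_mem _

/-- The shift vector of a generator. -/
def qAt (gens : List ℕ) (Q : List (List ℤ)) (i j : ℕ) : ℤ :=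
  if gens.idxOf i < gens.length then (Q.getD (gens.idxOf i) []).getD j 0 else 0

/-- Combination of rows: checks `mult • (δ_k + Σ E Q) = Σ c row`. -/
noncomputable def combOK (m : ℕ) (unk gens : List ℕ) (Q : List (List ℤ)) (rows : List ℕ)
    (t : (ℕ × ℕ) × List ℤ) : Bool :=
  Nat.blt t.1.1 m && (List.range m).all fun j => decide (
    (t.1.2 : ℤ) * ((if j = t.1.1 then 1 else 0) +
      ((List.range 8).map fun i =>
        expSum i (relators.getD (unk.getD t.1.1 0) []) * qAt gens Q i j).sum) =
    ((List.range rows.length).map fun r => t.2.getD r 0 * expo (rows.getD r 0) j).sum)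

theorem vecVal_sum (z : ℕ → Subgroup.center Γ) (m : ℕ) {ι : Type*} (s : List ι) (f : ι → ℕ → ℤ) :
    vecVal z m (fun j => (s.map fun i => f i j).sum) = (s.map fun i => vecVal z m (f i)).prod := by
  induction s with
  | nil => simpa using vecVal_zero z m
  | cons a s ih =>
    simp only [List.map_cons, List.sum_cons, List.prod_cons]
    rw [vecVal_add z m (f a), ih]

theorem vecVal_smul (z : ℕ → Subgroup.center Γ) (m : ℕ) (c : ℤ) (a : ℕ → ℤ) :
    vecVal z m (fun j => c * a j) = vecVal z m a ^ c := by
  rw [vecVal, vecVal, ← Subgroup.coe_zpow, ← Finset.prod_zpow]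
  congr 1
  exact Finset.prod_congr rfl fun j _ => by rw [← zpow_mul, mul_comm]

/-- The shift of the generators given by the vectors. -/
noncomputable def shiftC (z : ℕ → Subgroup.center Γ) (m : ℕ) (gens : List ℕ) (Q : List (List ℤ)) (i : ℕ) :
    Subgroup.center Γ :=
  ∏ j ∈ Finset.range m, z j ^ qAt gens Q i j

theorem coe_shiftC (z : ℕ → Subgroup.center Γ) (m : ℕ) (gens : List ℕ) (Q : List (List ℤ)) (i : ℕ) :
    (shiftC z m gens Q i : Γ) = vecVal z m (qAt gens Q i) := rfl

theorem shiftVal_eq (z : ℕ → Subgroup.center Γ) (m : ℕ) (gens : List ℕ) (Q : List (List ℤ)) (l : List ℕ) :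
    (shiftVal (shiftC z m gens Q) l : Γ) =
      vecVal z m (fun j => ((List.range 8).map fun i => expSum i l * qAt gens Q i j).sum) := by
  rw [vecVal_sum z m (List.range 8) fun i j => expSum i l * qAt gens Q i j, shiftVal]
  simp only [vecVal_smul, ← coe_shiftC]
  simp only [← Subgroup.coe_zpow]
  rw [Finset.prod_eq_multiset_prod, Finset.range_val, Multiset.range, Multiset.map_coe, Multiset.prod_coe]
  simp only [Subgroup.val_list_prod, List.map_map]
  rfl

/-- The shifted generators leave the values of these relators alone. -/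
def keepOK (gens zero : List ℕ) : Bool :=
  zero.all fun j => gens.all fun i => decide (expSum i (relators.getD j []) = 0)

theorem shiftVal_one (z : ℕ → Subgroup.center Γ) (m : ℕ) {gens : List ℕ} (Q : List (List ℤ)) {l : List ℕ}
    (h : ∀ i ∈ gens, expSum i l = 0) : (shiftVal (shiftC z m gens Q) l : Γ) = 1 := by
  rw [shiftVal_eq, ← vecVal_zero z m]
  refine vecVal_congr z fun j _ => List.sum_eq_zero fun t ht => ?_
  obtain ⟨i, -, rfl⟩ := List.mem_map.1 ht
  by_cases hi : gens.idxOf i < gens.length
  · rw [h i (List.idxOf_lt_length_iff.1 hi), zero_mul]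
  · simp [qAt, hi]

/-- The shifted lifts. -/
noncomputable def shifted (x : ℕ → Γ) (z : ℕ → Subgroup.center Γ) (m : ℕ) (gens : List ℕ)
    (Q : List (List ℤ)) (i : ℕ) : Γ :=
  x i * (shiftC z m gens Q i : Γ)

theorem stage {x : ℕ → Γ} {z : ℕ → Subgroup.center Γ} {m : ℕ} {unk gens : List ℕ} {Q : List (List ℤ)}
    {rows : List ℕ} {comb : List ((ℕ × ℕ) × List ℤ)} {zero : List ℕ} (hx : IsLift σ x)
    (hz : ∀ k < m, (z k : Γ) = rval x (unk.getD k 0)) (hker : ∀ k, (z k : Γ) ∈ σ.ker)
    (hrow : ∀ r ∈ rows, vecVal z m (expo r) = 1) (hc : comb.all (combOK m unk gens Q rows) = true)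
    (hkeep : keepOK gens zero = true) :
    IsLift σ (shifted x z m gens Q) ∧
      (∀ j ∈ zero, rval (shifted x z m gens Q) j = rval x j) ∧
      (∀ i, i ∉ gens → shifted x z m gens Q i = x i) ∧
      ∀ t ∈ comb, rval (shifted x z m gens Q) (unk.getD t.1.1 0) ^ t.1.2 = 1 := by
  have hshift : ∀ j, rval (shifted x z m gens Q) j =
      rval x j * (shiftVal (shiftC z m gens Q) (relators.getD j []) : Γ) := fun j =>
    wval_shift x (shiftC z m gens Q) _ (relators_getD_lt j)
  refine ⟨fun i hi => ?_, fun j hj => ?_, fun i hi => ?_, fun t ht => ?_⟩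
  · have hk : shiftC z m gens Q i ∈ σ.ker.comap (Subgroup.center Γ).subtype :=
      Subgroup.prod_mem _ fun k _ => Subgroup.zpow_mem _ (hker k) _
    rw [Subgroup.mem_comap, Subgroup.coe_subtype] at hk
    rw [shifted, map_mul, hx i hi, MonoidHom.mem_ker.1 hk, mul_one]
  · simp only [keepOK, List.all_eq_true, decide_eq_true_eq] at hkeep
    rw [hshift, shiftVal_one z m Q (hkeep j hj), mul_one]
  · have h : ¬ gens.idxOf i < gens.length := fun h => hi (List.idxOf_lt_length_iff.1 h)
    simp [shifted, shiftC, qAt, h]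
  · rw [List.all_eq_true] at hc
    have h := hc t ht
    simp only [combOK, Bool.and_eq_true, Nat.blt_eq, List.all_eq_true, List.mem_range,
      decide_eq_true_eq] at h
    obtain ⟨hk, h⟩ := h
    rw [hshift, ← hz _ hk, ← vecVal_single z hk, shiftVal_eq, ← vecVal_add, ← zpow_natCast,
      ← vecVal_smul, vecVal_congr z h,
      vecVal_sum z m (List.range rows.length) fun r j => t.2.getD r 0 * expo (rows.getD r 0) j]
    refine List.prod_eq_one fun v hv => ?_
    obtain ⟨r, hr, rfl⟩ := List.mem_map.1 hv
    rw [vecVal_smul, List.getD_eq_getElem rows _ (List.mem_range.1 hr),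
      hrow _ (List.getElem_mem (List.mem_range.1 hr)), one_zpow]

end Cfsg.Agent.Lib.ThMult
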