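import Cfsg.Agent.Lib.ThMult.Lifts
import Cfsg.Agent.Lib.ThMult.LD
import Cfsg.Agent.Lib.ThMult.LH
import Cfsg.Agent.Lib.ThMult.LHU
import Cfsg.Agent.Lib.ThMult.LNU
import Cfsg.Agent.Lib.ThP.Order
import Cfsg.Agent.Lib.Multiplier.Basic

/-!
A central extension of the presented Thompson group splits: lifts of the generators can be chosen so that
every relator holds, given that `P = ⟨a, b, c, d, e, s, t⟩` embeds.
-/

set_option autoImplicit false
set_option maxRecDepth 20000

namespace Cfsg.Agent.Lib.ThMult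

open Cfsg.Agent.Lib.CosetEnum
open scoped IsMulCommutative

variable {Γ : Type} [Group Γ] (σ : Γ →* Cfsg.Spor.Th)

/-- The values of the unknown relators, as central elements. -/
noncomputable def zOf (x : ℕ → Γ) (unk : List ℕ) (k : ℕ) : Subgroup.center Γ :=
  open Classical in if h : rval x (unk.getD k 0) ∈ Subgroup.center Γ then ⟨_, h⟩ else 1

theorem zOf_spec (hc : σ.ker ≤ Subgroup.center Γ) {x : ℕ → Γ} (hx : IsLift σ x) {unk : List ℕ}
    (hu : ∀ j ∈ unk, j < 39) (k : ℕ) :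
    (zOf x unk k : Γ) = rval x (unk.getD k 0) ∧ (zOf x unk k : Γ) ∈ σ.ker := by
  have hj : unk.getD k 0 < 39 := by
    rcases lt_or_ge k unk.length with h | h
    · rw [List.getD_eq_getElem _ _ h]; exact hu _ (List.getElem_mem h)
    · rw [List.getD_eq_default _ _ h]; omega
  have hm := hx.rval_mem σ hj
  rw [zOf, dif_pos (hc hm)]
  exact ⟨rfl, hm⟩

theorem vecVal_mem_ker {x : ℕ → Γ} {unk : List ℕ} (hz : ∀ k, (zOf x unk k : Γ) ∈ σ.ker) (m : ℕ)
    (e : ℕ → ℤ) : vecVal (zOf x unk) m e ∈ σ.ker := by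
  have h : (∏ j ∈ Finset.range m, zOf x unk j ^ e j) ∈ σ.ker.comap (Subgroup.center Γ).subtype :=
    Subgroup.prod_mem _ fun k _ => Subgroup.zpow_mem _ (hz k) _
  exact h

theorem inv_eq_self_of_sq {y : Γ} (h : y * y = 1) : y⁻¹ = y :=
  inv_eq_of_mul_eq_one_right h

theorem exists_fix_t (hc : σ.ker ≤ Subgroup.center Γ) {x : ℕ → Γ} (hx : IsLift σ x) :
    ∃ y : ℕ → Γ, IsLift σ y ∧ rval y 20 = 1 ∧ rval y 34 = 1 := by
  set τ := rval x 20 with hτ
  set η := rval x 34 with hη
  have hτk := hx.rval_mem σ (j := 20) (by omega)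
  have hηk := hx.rval_mem σ (j := 34) (by omega)
  have hl : η * τ⁻¹ ∈ Subgroup.center Γ := hc (Subgroup.mul_mem _ hηk (Subgroup.inv_mem _ hτk))
  set l := η * τ⁻¹ with hldef
  have hlc : ∀ y : Γ, y * l = l * y := Subgroup.mem_center_iff.1 hl
  have hηc : ∀ y : Γ, y * η = η * y := Subgroup.mem_center_iff.1 (hc hηk)
  have hτc : ∀ y : Γ, y * τ = τ * y := Subgroup.mem_center_iff.1 (hc hτk)
  have e20 : ∀ y : ℕ → Γ, rval y 20 = y 6 * y 6 * y 6 := fun y => by
    rw [rval, show relators.getD 20 [] = [12, 12, 12] by decide +kernel]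
    simp [wval, lphi, mul_assoc]
  have e34 : ∀ y : ℕ → Γ, rval y 34 = (y 7)⁻¹ * y 6 * y 7 * y 6 := fun y => by
    rw [rval, show relators.getD 34 [] = [15, 12, 14, 12] by decide +kernel]
    simp [wval, lphi, mul_assoc]
  set a := x 6 with ha
  set b := x 7 with hb
  have ht : τ = a * a * a := by rw [hτ, e20]
  have hh : b⁻¹ * a * b = η * a⁻¹ := by rw [hη, e34, mul_inv_cancel_right]
  have hrel : τ * τ = η * η * η := by
    have h1 : b⁻¹ * τ * b = η * η * η * τ⁻¹ := by
      have : b⁻¹ * τ * b = (b⁻¹ * a * b) * (b⁻¹ * a * b) * (b⁻¹ * a * b) := by rw [ht]; group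
      rw [this, hh, ht]
      simp only [mul_inv_rev, mul_assoc]
      rw [← mul_assoc a⁻¹ η, hηc a⁻¹]
      simp only [mul_assoc]
      rw [← mul_assoc a⁻¹ η, hηc a⁻¹]
      simp only [mul_assoc]
      rw [← mul_assoc a⁻¹ η, hηc a⁻¹]
      simp only [mul_assoc]
    rw [hτc b⁻¹, inv_mul_cancel_right] at h1
    nth_rw 1 [h1]
    rw [inv_mul_cancel_right]
  refine ⟨Function.update x 6 (a * l), fun i hi => ?_, ?_, ?_⟩
  · by_cases h : i = 6
    · subst h
      rw [Function.update_self, map_mul, ha, hx 6 hi,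
        MonoidHom.mem_ker.1 (Subgroup.mul_mem _ hηk (Subgroup.inv_mem _ hτk)), mul_one]
    · rw [Function.update_of_ne h]; exact hx i hi
  · rw [e20, Function.update_self]
    have : a * l * (a * l) * (a * l) = a * a * a * (l * l * l) := by
      simp only [mul_assoc]
      rw [← mul_assoc l a, ← hlc a]
      simp only [mul_assoc]
      rw [← mul_assoc l a, ← hlc a]
      simp only [mul_assoc]
      rw [← mul_assoc l a, ← hlc a]
      simp only [mul_assoc]
    rw [this, ← ht, hldef]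
    have hi : ∀ y : Γ, y * τ⁻¹ = τ⁻¹ * y := fun y => (Commute.inv_right (hτc y) : Commute y τ⁻¹)
    have : η * τ⁻¹ * (η * τ⁻¹) * (η * τ⁻¹) = η * η * η * (τ⁻¹ * τ⁻¹ * τ⁻¹) := by
      simp only [mul_assoc]
      rw [← mul_assoc τ⁻¹ η, ← hi η]
      simp only [mul_assoc]
      rw [← mul_assoc τ⁻¹ η, ← hi η]
      simp only [mul_assoc]
      rw [← mul_assoc τ⁻¹ η, ← hi η]
      simp only [mul_assoc]
    rw [this, ← hrel]
    group
  · rw [e34, Function.update_self, Function.update_of_ne (by decide : (7 : ℕ) ≠ 6)]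
    change b⁻¹ * (a * l) * b * (a * l) = 1
    have : b⁻¹ * (a * l) * b * (a * l) = (b⁻¹ * a * b) * a * (l * l) := by
      simp only [mul_assoc]
      rw [← mul_assoc l b, ← hlc b]
      simp only [mul_assoc]
      rw [← mul_assoc l a, ← hlc a]
      simp only [mul_assoc]
    rw [this, hh, inv_mul_cancel_right, hldef]
    have hi : ∀ y : Γ, y * τ⁻¹ = τ⁻¹ * y := fun y => (Commute.inv_right (hτc y) : Commute y τ⁻¹)
    have : η * (η * τ⁻¹ * (η * τ⁻¹)) = η * η * η * (τ⁻¹ * τ⁻¹) := by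
      simp only [mul_assoc]
      rw [← mul_assoc τ⁻¹ η, ← hi η]
      simp only [mul_assoc]
    rw [this, ← hrel]
    group

/-- The packed vectors of rows. -/
noncomputable def rowVecs (rows : List ((ℕ × ℕ × ℕ × ℕ) × ℕ)) : List ℕ := rows.map Prod.snd

/-- A stage: if the rows vanish, a shift makes the targets vanish and keeps the others. -/
theorem run_stage (hc : σ.ker ≤ Subgroup.center Γ) {x : ℕ → Γ} (hx : IsLift σ x) {unk gens : List ℕ}
    {Q : List (List ℤ)} {comb : List ((ℕ × ℕ) × List ℤ)} {zero : List ℕ} {rows : List ℕ} {m : ℕ}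
    (hu : ∀ j ∈ unk, j < 39)
    (hrow : ∀ r ∈ rows, vecVal (zOf x unk) m (expo r) = 1)
    (hcomb : comb.all (combOK m unk gens Q rows) = true) (hkeep : keepOK gens zero = true) :
    ∃ y, IsLift σ y ∧ (∀ j ∈ zero, rval y j = rval x j) ∧
      ∀ t ∈ comb, rval y (unk.getD t.1.1 0) ^ t.1.2 = 1 := by
  obtain ⟨h1, h2, -, h4⟩ := stage σ hx (z := zOf x unk) (fun k _ => (zOf_spec σ hc hx hu k).1)
    (fun k => (zOf_spec σ hc hx hu k).2) hrow hcomb hkeep
  exact ⟨_, h1, h2, h4⟩

theorem stage_D (hc : σ.ker ≤ Subgroup.center Γ) {x : ℕ → Γ} (hx : IsLift σ x)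
    (h0 : ∀ j ∈ [20, 34], rval x j = 1) :
    ∃ y, IsLift σ y ∧ ∀ j ∈ [20, 34] ++ unkD, rval y j = 1 := by
  have hu : ∀ j ∈ unkD, j < 39 := by decide
  have hV : LValid LD.ldata (emPhi LD.ldata.d.K LD.emb x) ⊥ (zOf x unkD) :=
    lvalid_of_ok (RL := LD.relList) (HL := LD.subList) (src := LD.relSrc) (unk := unkD) (zero := [20, 34])
      (by decide +kernel) (fun k _ => (zOf_spec σ hc hx hu k).1) h0 (by simp [LD.subList])
  obtain ⟨y, hy, hkeep, ht⟩ := run_stage σ hc hx hu (rows := rowVecs LD.rows) (m := LD.ldata.m)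
    (gens := gensD) (Q := shiftD) (comb := combD) (zero := [20, 34])
    (by
      intro r hr
      obtain ⟨c, hcm, rfl⟩ := List.mem_map.1 hr
      exact Subgroup.mem_bot.1 (LD.row_mem hV c hcm))
    (by decide +kernel) (by decide +kernel)
  refine ⟨y, hy, fun j hj => ?_⟩
  rcases List.mem_append.1 hj with hj | hj
  · rw [hkeep j hj, h0 j hj]
  · have hcov : ∀ j ∈ unkD, ∃ t ∈ combD, unkD.getD t.1.1 0 = j ∧ t.1.2 = 1 := by decide +kernel
    obtain ⟨t, htm, htj, ht1⟩ := hcov j hj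
    have := ht t htm
    rwa [htj, ht1, pow_one] at this

/-- The six words of `⟨d, e⟩`. -/
def sixWords : List (List ℕ) := [[], [6], [8], [6, 8], [8, 6], [6, 8, 6]]

theorem sixWords_eval (y : ℕ → Γ) (hd : y 3 * y 3 = 1) (he : y 4 * y 4 = 1)
    (hde : y 3 * y 4 * (y 3 * y 4) * (y 3 * y 4) = 1) :
    ∀ w ∈ sixWords, ∀ g ∈ ([6, 8] : List ℕ), ∃ v ∈ sixWords, lphi y g * wval y w = wval y v := by
  have hsd : y 3 * y 4 * y 3 = y 4 * y 3 * y 4 := by
    have h1 : (y 3 * y 4 * y 3) * (y 4 * y 3 * y 4) = 1 := by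
      rw [← hde]; simp only [mul_assoc]
    have h2 : (y 3 * y 4 * y 3)⁻¹ = y 3 * y 4 * y 3 := by
      rw [mul_inv_rev, mul_inv_rev, inv_eq_self_of_sq hd, inv_eq_self_of_sq he, mul_assoc]
    rw [← h2]
    exact inv_eq_of_mul_eq_one_right h1
  have hd' : ∀ r : Γ, y 3 * (y 3 * r) = r := fun r => by rw [← mul_assoc, hd, one_mul]
  have he' : ∀ r : Γ, y 4 * (y 4 * r) = r := fun r => by rw [← mul_assoc, he, one_mul]
  rw [mul_assoc, mul_assoc] at hsd
  intro w hw g hg
  simp only [sixWords, List.mem_cons, List.not_mem_nil, or_false] at hw hg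
  rcases hw with rfl | rfl | rfl | rfl | rfl | rfl <;> rcases hg with rfl | rfl
  · exact ⟨[6], by decide, by simp [wval, lphi]⟩
  · exact ⟨[8], by decide, by simp [wval, lphi]⟩
  · exact ⟨[], by decide, by simp [wval, lphi, hd]⟩
  · exact ⟨[8, 6], by decide, by simp [wval, lphi]⟩
  · exact ⟨[6, 8], by decide, by simp [wval, lphi]⟩
  · exact ⟨[], by decide, by simp [wval, lphi, he]⟩
  · exact ⟨[8], by decide, by simp [wval, lphi, hd']⟩
  · exact ⟨[6, 8, 6], by decide, by simp [wval, lphi, hsd]⟩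
  · exact ⟨[6, 8, 6], by decide, by simp [wval, lphi]⟩
  · exact ⟨[6], by decide, by simp [wval, lphi, he']⟩
  · exact ⟨[8, 6], by decide, by simp [wval, lphi, hd']⟩
  · refine ⟨[6, 8], by decide, ?_⟩
    simp only [wval, lphi, List.map_cons, List.map_nil, List.prod_cons, List.prod_nil, mul_one,
      Nat.reduceMod, Nat.reduceDiv, if_pos]
    rw [hsd, he', ← mul_one (y 3 * y 4), mul_assoc]

theorem six_words_faithful : ∀ w ∈ sixWords, w ≠ [] →
    ∃ i ∈ List.range 819, scan 14 Cfsg.Agent.Lib.ThP.table w i ≠ i := by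
  decide +kernel

/-- The letters of the generators `a, …, t` inside `P`. -/
theorem toTh_val {l : List ℕ} (hl : ∀ g ∈ l, g < 14) :
    Cfsg.Agent.Lib.ThP.toTh (Cfsg.Agent.Lib.ThP.val l) = wval th l := by
  rw [Cfsg.Agent.Lib.ThP.val, map_list_prod, List.map_map, wval]
  congr 1
  refine List.map_congr_left fun g hg => ?_
  have h14 := hl g hg
  rw [Function.comp_apply, Letters.phi_of_lt (show g < Cfsg.Agent.Lib.ThP.letters.K from h14)]
  have key : ∀ g < 14, (Cfsg.Agent.Lib.ThP.letters.sym g).2 = decide (g % 2 = 0) ∧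
      Cfsg.Agent.Lib.ThP.gen7 (Cfsg.Agent.Lib.ThP.letters.sym g).1 = gen8 (g / 2) := by decide +kernel
  obtain ⟨k2, k1⟩ := key g h14
  generalize Cfsg.Agent.Lib.ThP.letters.sym g = p at k1 k2
  obtain ⟨i, o⟩ := p
  simp only at k1 k2
  have hof : PresentedGroup.mk Cfsg.Agent.Lib.ThP.pres (FreeGroup.mk [(i, true)]) = PresentedGroup.of i := rfl
  rcases Nat.mod_two_eq_zero_or_one g with h | h
  · rw [h] at k2
    simp only [decide_true] at k2
    rw [k2, hof, Cfsg.Agent.Lib.ThP.toTh_of, k1]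
    simp [lphi, h, th]
  · rw [h] at k2
    simp only [one_ne_zero, decide_false] at k2
    have hinv : FreeGroup.mk [(i, false)] = (FreeGroup.mk [(i, true)])⁻¹ := by
      simp [FreeGroup.inv_mk, FreeGroup.invRev]
    rw [k2, hinv, map_inv, hof, map_inv, Cfsg.Agent.Lib.ThP.toTh_of, k1]
    simp [lphi, h, th]

theorem six_faithful (hinj : Function.Injective Cfsg.Agent.Lib.ThP.toTh) {x : ℕ → Γ} (hx : IsLift σ x)
    (h0 : ∀ j ∈ [3, 4, 12], rval x j = 1) :
    ∀ v ∈ Subgroup.closure {y | ∃ l ∈ LH.subList, wval x (embWord LH.emb l) = y}, σ v = 1 → v = 1 := by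
  have e3 : relators.getD 3 [] = [6, 6] := by decide +kernel
  have e4 : relators.getD 4 [] = [8, 8] := by decide +kernel
  have e12 : relators.getD 12 [] = [6, 8, 6, 8, 6, 8] := by decide +kernel
  have hd : x 3 * x 3 = 1 := by
    have := h0 3 (by decide)
    rw [rval, e3] at this
    simpa [wval, lphi] using this
  have he : x 4 * x 4 = 1 := by
    have := h0 4 (by decide)
    rw [rval, e4] at this
    simpa [wval, lphi] using this
  have hde : x 3 * x 4 * (x 3 * x 4) * (x 3 * x 4) = 1 := by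
    have := h0 12 (by decide)
    rw [rval, e12] at this
    simpa [wval, lphi, mul_assoc] using this
  have hsix := sixWords_eval x hd he hde
  intro v hv
  have hmem : ∃ w ∈ sixWords, v = wval x w := by
    have hgen : ∀ g ∈ {y | ∃ l ∈ LH.subList, wval x (embWord LH.emb l) = y},
        g⁻¹ = g ∧ (g = lphi x 6 ∨ g = lphi x 8) := by
      rintro _ ⟨l, hl, rfl⟩
      simp only [LH.subList, List.mem_cons, List.not_mem_nil, or_false] at hl
      rcases hl with rfl | rfl
      · exact ⟨by simpa [wval, embWord, LH.emb, lphi] using inv_eq_self_of_sq hd,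
          Or.inl (by simp [wval, embWord, LH.emb])⟩
      · exact ⟨by simpa [wval, embWord, LH.emb, lphi] using inv_eq_self_of_sq he,
          Or.inr (by simp [wval, embWord, LH.emb])⟩
    have hstep : ∀ g, (g = lphi x 6 ∨ g = lphi x 8) → ∀ b, (∃ w ∈ sixWords, b = wval x w) →
        ∃ w ∈ sixWords, g * b = wval x w := by
      rintro g hg b ⟨w, hw, rfl⟩
      rcases hg with rfl | rfl
      · exact hsix w hw 6 (by decide)
      · exact hsix w hw 8 (by decide)
    induction hv using Subgroup.closure_induction_left with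
    | one => exact ⟨[], by decide, rfl⟩
    | mul_left g hg b _ ih => exact hstep g (hgen g hg).2 b ih
    | inv_mul_cancel g hg b _ ih => rw [(hgen g hg).1]; exact hstep g (hgen g hg).2 b ih
  intro hσ
  obtain ⟨w, hw, rfl⟩ := hmem
  by_contra hne
  have hw0 : w ≠ [] := fun h => hne (by rw [h]; rfl)
  have hl : ∀ g ∈ w, g < 14 := (show ∀ w ∈ sixWords, ∀ g ∈ w, g < 14 by decide) w hw
  rw [hx.map_wval σ (fun g hg => by have := hl g hg; omega), ← toTh_val hl,
    ← map_one Cfsg.Agent.Lib.ThP.toTh] at hσ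
  obtain ⟨i, hi, hmove⟩ := six_words_faithful w hw hw0
  apply hmove
  rw [← Cfsg.Agent.Lib.ThP.act_word w hl ⟨i, List.mem_range.1 hi⟩, hinj hσ]
  simp

theorem stage_H (hc : σ.ker ≤ Subgroup.center Γ) (hinj : Function.Injective Cfsg.Agent.Lib.ThP.toTh)
    {x : ℕ → Γ} (hx : IsLift σ x) (h0 : ∀ j ∈ [20, 34] ++ unkD, rval x j = 1) :
    ∃ y, IsLift σ y ∧ ∀ j ∈ [20, 34] ++ unkD ++ unkH, rval y j = 1 := by
  have hu : ∀ j ∈ unkH, j < 39 := by decide
  have hsep := six_faithful σ hinj hx fun j hj =>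
    h0 j ((show ∀ j ∈ [3, 4, 12], j ∈ [20, 34] ++ unkD by decide) j hj)
  have hV : LValid LH.ldata (emPhi LH.ldata.d.K LH.emb x)
      (Subgroup.closure {y | ∃ l ∈ LH.subList, wval x (embWord LH.emb l) = y}) (zOf x unkH) :=
    lvalid_of_ok (RL := LH.relList) (HL := LH.subList) (src := LH.relSrc) (unk := unkH)
      (zero := [20, 34] ++ unkD)
      (by decide +kernel) (fun k _ => (zOf_spec σ hc hx hu k).1) h0
      (fun l hl => Subgroup.subset_closure ⟨l, hl, rfl⟩)
  obtain ⟨y, hy, hkeep, ht⟩ := run_stage σ hc hx hu (rows := rowVecs LH.rows) (m := LH.ldata.m)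
    (gens := gensH) (Q := shiftH) (comb := combH) (zero := [20, 34] ++ unkD)
    (by
      intro r hr
      obtain ⟨c, hcm, rfl⟩ := List.mem_map.1 hr
      exact hsep _ (LH.row_mem hV c hcm)
        (MonoidHom.mem_ker.1 (vecVal_mem_ker σ (fun k => (zOf_spec σ hc hx hu k).2) _ _)))
    (by decide +kernel) (by decide +kernel)
  refine ⟨y, hy, fun j hj => ?_⟩
  rcases List.mem_append.1 hj with hj | hj
  · rw [hkeep j hj, h0 j hj]
  · have hcov : ∀ j ∈ unkH, ∃ t ∈ combH, unkH.getD t.1.1 0 = j ∧ t.1.2 = 1 := by decide +kernel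
    obtain ⟨t, htm, htj, ht1⟩ := hcov j hj
    have := ht t htm
    rwa [htj, ht1, pow_one] at this

/-- A central commutator of an involution and an element of odd order is trivial. -/
theorem comm_eq_one {a s : Γ} {n : ℕ} (hn : Odd n) (ha : a * a = 1) (hs : s ^ n = 1)
    (hz : s⁻¹ * a⁻¹ * s * a ∈ Subgroup.center Γ) : s⁻¹ * a⁻¹ * s * a = 1 := by
  set ζ := s⁻¹ * a⁻¹ * s * a with hζ
  have hzc : ∀ y : Γ, y * ζ = ζ * y := Subgroup.mem_center_iff.1 hz
  have hai := inv_eq_self_of_sq ha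
  have h1 : s⁻¹ * a * s = ζ * a := by
    have h : ζ * a = s⁻¹ * a⁻¹ * s * (a * a) := by rw [hζ, mul_assoc]
    rw [h, ha, mul_one, hai]
  have hk : ∀ k : ℕ, (s ^ k)⁻¹ * a * s ^ k = ζ ^ k * a := by
    intro k
    induction k with
    | zero => simp
    | succ k ih =>
      have e : (s ^ (k + 1))⁻¹ * a * s ^ (k + 1) = (s ^ k)⁻¹ * (s⁻¹ * a * s) * s ^ k := by
        rw [pow_succ']; group
      rw [e, h1, ← mul_assoc, hzc, mul_assoc, mul_assoc, ← mul_assoc _ a, ih, ← mul_assoc, ← pow_succ']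
  have h2 : ζ ^ n = 1 := by
    have := hk n
    rw [hs, inv_one, one_mul, mul_one] at this
    exact mul_eq_right.1 this.symm
  have h3 : ζ * ζ = 1 := by
    have e : ζ * ζ = (ζ * a) * (ζ * a) := by
      rw [mul_assoc ζ a, ← mul_assoc a ζ, hzc a, mul_assoc ζ a, ha, mul_one]
    rw [e, ← h1]
    calc s⁻¹ * a * s * (s⁻¹ * a * s) = s⁻¹ * (a * a) * s := by group
      _ = 1 := by rw [ha, mul_one, inv_mul_cancel]
  obtain ⟨k, rfl⟩ := hn
  rwa [pow_succ, pow_mul, pow_two, h3, one_pow, one_mul] at h2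

theorem stage_P (hc : σ.ker ≤ Subgroup.center Γ) (hinj : Function.Injective Cfsg.Agent.Lib.ThP.toTh)
    {x : ℕ → Γ} (hx : IsLift σ x) :
    ∃ y, IsLift σ y ∧ ∀ j ∈ List.range 27 ++ [34], rval y j = 1 := by
  obtain ⟨x₁, hx₁, h20, h34⟩ := exists_fix_t σ hc hx
  obtain ⟨x₂, hx₂, h2⟩ := stage_D σ hc hx₁ (by simp [h20, h34])
  obtain ⟨y, hy, h⟩ := stage_H σ hc hinj hx₂ h2
  have hk : ∀ j < 39, rval y j ∈ Subgroup.center Γ := fun j hj => hc (hy.rval_mem σ hj)
  have hz : ∀ j ∈ [0, 1, 2, 3, 4, 14, 20], rval y j = 1 := fun j hj =>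
    h j ((show ∀ j ∈ [0, 1, 2, 3, 4, 14, 20], j ∈ [20, 34] ++ unkD ++ unkH by decide) j hj)
  have hsq : ∀ i < 5, y i * y i = 1 := by
    intro i hi
    have e : relators.getD i [] = [2 * i, 2 * i] := by
      revert i; decide +kernel
    have := hz i (by interval_cases i <;> decide)
    rw [rval, e] at this
    simpa [wval, lphi] using this
  have h7 : y 5 ^ 7 = 1 := by
    have := hz 14 (by decide)
    rw [rval, show relators.getD 14 [] = [10, 10, 10, 10, 10, 10, 10] by decide +kernel] at this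
    simpa [wval, lphi, pow_succ', mul_assoc] using this
  have h3 : y 6 ^ 3 = 1 := by
    have := hz 20 (by decide)
    rw [rval, show relators.getD 20 [] = [12, 12, 12] by decide +kernel] at this
    simpa [wval, lphi, pow_succ', mul_assoc] using this
  have hcomm : ∀ j ∈ [15, 16, 17, 21, 22, 23], rval y j = 1 := by
    intro j hj
    obtain ⟨g, i, n, hn, hi, e, he⟩ : ∃ g i n, Odd n ∧ i < 5 ∧
        rval y j = (y g)⁻¹ * (y i)⁻¹ * y g * y i ∧ y g ^ n = 1 := by
      simp only [List.mem_cons, List.not_mem_nil, or_false] at hj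
      rcases hj with rfl | rfl | rfl | rfl | rfl | rfl
      · exact ⟨5, 0, 7, by decide, by decide, by
          rw [rval, show relators.getD 15 [] = [11, 1, 10, 0] by decide +kernel]
          simp [wval, lphi, mul_assoc], h7⟩
      · exact ⟨5, 1, 7, by decide, by decide, by
          rw [rval, show relators.getD 16 [] = [11, 3, 10, 2] by decide +kernel]
          simp [wval, lphi, mul_assoc], h7⟩
      · exact ⟨5, 2, 7, by decide, by decide, by
          rw [rval, show relators.getD 17 [] = [11, 5, 10, 4] by decide +kernel]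
          simp [wval, lphi, mul_assoc], h7⟩
      · exact ⟨6, 0, 3, by decide, by decide, by
          rw [rval, show relators.getD 21 [] = [13, 1, 12, 0] by decide +kernel]
          simp [wval, lphi, mul_assoc], h3⟩
      · exact ⟨6, 1, 3, by decide, by decide, by
          rw [rval, show relators.getD 22 [] = [13, 3, 12, 2] by decide +kernel]
          simp [wval, lphi, mul_assoc], h3⟩
      · exact ⟨6, 2, 3, by decide, by decide, by
          rw [rval, show relators.getD 23 [] = [13, 5, 12, 4] by decide +kernel]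
          simp [wval, lphi, mul_assoc], h3⟩
    have hj39 : j < 39 := (show ∀ j ∈ [15, 16, 17, 21, 22, 23], j < 39 by decide) j hj
    rw [e]
    exact comm_eq_one hn (hsq i hi) he (e ▸ hk j hj39)
  refine ⟨y, hy, fun j hj => ?_⟩
  have hcov : ∀ j ∈ List.range 27 ++ [34],
      j ∈ [20, 34] ++ unkD ++ unkH ∨ j ∈ [15, 16, 17, 21, 22, 23] := by decide +kernel
  rcases hcov j hj with hj | hj
  · exact h j hj
  · exact hcomm j hj

/-- The homomorphism from `P` given by lifts satisfying its relators. -/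
theorem exists_theta {x : ℕ → Γ} (hx : IsLift σ x) (h : ∀ j < 27, rval x j = 1) :
    ∃ θ : Cfsg.Agent.Lib.ThP.P →* Γ, σ.comp θ = Cfsg.Agent.Lib.ThP.toTh ∧
      ∀ l : List ℕ, (∀ g ∈ l, g < 14) → wval x l = θ (Cfsg.Agent.Lib.ThP.val l) := by
  have hlift : ∀ l : List ℕ, (∀ g ∈ l, g < 14) →
      FreeGroup.lift (fun i : Fin 7 => x i.val)
        (FreeGroup.mk (l.map (Cfsg.Agent.Lib.ExactCover.stdSym 7))) = wval x l := by
    intro l hl
    rw [FreeGroup.lift_mk, List.map_map, wval]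
    congr 1
    refine List.map_congr_left fun g hg => ?_
    have := hl g hg
    have hv : g / 2 % 7 = g / 2 := by omega
    rcases Nat.mod_two_eq_zero_or_one g with h | h <;>
      simp [Cfsg.Agent.Lib.ExactCover.stdSym, lphi, h, hv]
  have hrel : ∀ r ∈ Cfsg.Agent.Lib.ThP.pres, FreeGroup.lift (fun i : Fin 7 => x i.val) r = 1 := by
    rintro r hr
    obtain ⟨l, hl, rfl⟩ := List.mem_map.1 hr
    obtain ⟨j, hj, rfl⟩ := List.mem_iff_getElem.1 hl
    rw [hlift _ ((show ∀ l ∈ Cfsg.Agent.Lib.ThP.relWords, ∀ g ∈ l, g < 14 by decide +kernel) _ hl),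
      ← List.getD_eq_getElem _ [], ← relators_take j (relWords_length ▸ hj)]
    exact h j (relWords_length ▸ hj)
  refine ⟨PresentedGroup.toGroup hrel, PresentedGroup.ext fun i => ?_, fun l hl => ?_⟩
  · rw [MonoidHom.comp_apply, PresentedGroup.toGroup.of, hx _ (by omega),
      Cfsg.Agent.Lib.ThP.toTh_of, th]
    congr 1
    fin_cases i <;> rfl
  · rw [Cfsg.Agent.Lib.ThP.val, map_list_prod, List.map_map, wval]
    congr 1
    refine List.map_congr_left fun g hg => ?_
    have h14 := hl g hg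
    rw [Function.comp_apply, Letters.phi_of_lt (show g < Cfsg.Agent.Lib.ThP.letters.K from h14)]
    have key : ∀ g < 14, Cfsg.Agent.Lib.ThP.letters.sym g = Cfsg.Agent.Lib.ExactCover.stdSym 7 g := by
      decide +kernel
    rw [key g h14]
    exact (((hlift [g] (by simpa using h14)).trans (by simp [wval])).symm)

theorem eq_one_of_range {θ : Cfsg.Agent.Lib.ThP.P →* Γ} (hθ : σ.comp θ = Cfsg.Agent.Lib.ThP.toTh)
    (hinj : Function.Injective Cfsg.Agent.Lib.ThP.toTh) {v : Γ} (hv : v ∈ θ.range) (h : σ v = 1) :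
    v = 1 := by
  obtain ⟨p, rfl⟩ := hv
  rw [← MonoidHom.comp_apply, hθ, ← map_one Cfsg.Agent.Lib.ThP.toTh] at h
  rw [hinj h, map_one]

theorem sub_mem_range {x : ℕ → Γ} {θ : Cfsg.Agent.Lib.ThP.P →* Γ}
    (hθ : ∀ l : List ℕ, (∀ g ∈ l, g < 14) → wval x l = θ (Cfsg.Agent.Lib.ThP.val l)) {emb : List ℕ}
    {HL : List (List ℕ)} (h : HL.all (fun l => (embWord emb l).all fun g => decide (g < 14)) = true) :
    ∀ l ∈ HL, wval x (embWord emb l) ∈ θ.range := by
  intro l hl
  simp only [List.all_eq_true, decide_eq_true_eq] at h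
  exact ⟨_, (hθ _ (h l hl)).symm⟩

theorem stage_U (hc : σ.ker ≤ Subgroup.center Γ) (hinj : Function.Injective Cfsg.Agent.Lib.ThP.toTh)
    {x : ℕ → Γ} (hx : IsLift σ x) (h0 : ∀ j ∈ List.range 27 ++ [34], rval x j = 1) :
    ∃ y, IsLift σ y ∧ (∀ j < 39, j ≠ 32 → rval y j = 1) ∧ rval y 32 * rval y 32 = 1 := by
  have hu : ∀ j ∈ unkU, j < 39 := by decide
  obtain ⟨θ, hθ, hval⟩ := exists_theta σ hx fun j hj =>
    h0 j (List.mem_append_left _ (List.mem_range.2 hj))
  have hV1 : LValid LHU.ldata (emPhi LHU.ldata.d.K LHU.emb x) θ.range (zOf x unkU) :=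
    lvalid_of_ok (RL := LHU.relList) (HL := LHU.subList) (src := LHU.relSrc) (unk := unkU)
      (zero := List.range 27 ++ [34]) (by decide +kernel) (fun k _ => (zOf_spec σ hc hx hu k).1) h0
      (sub_mem_range hval (by decide +kernel))
  have hV2 : LValid LNU.ldata (emPhi LNU.ldata.d.K LNU.emb x) θ.range (zOf x unkU) :=
    lvalid_of_ok (RL := LNU.relList) (HL := LNU.subList) (src := LNU.relSrc) (unk := unkU)
      (zero := List.range 27 ++ [34]) (by decide +kernel) (fun k _ => (zOf_spec σ hc hx hu k).1) h0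
      (sub_mem_range hval (by decide +kernel))
  obtain ⟨y, hy, hkeep, ht⟩ := run_stage σ hc hx hu (rows := rowVecs LHU.rows ++ rowVecs LNU.rows)
    (m := LHU.ldata.m) (gens := gensU) (Q := shiftU) (comb := combU) (zero := List.range 27 ++ [34])
    (by
      intro r hr
      have hk : ∀ e, σ (vecVal (zOf x unkU) LHU.ldata.m e) = 1 := fun e =>
        MonoidHom.mem_ker.1 (vecVal_mem_ker σ (fun k => (zOf_spec σ hc hx hu k).2) _ e)
      rcases List.mem_append.1 hr with hr | hr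
      · obtain ⟨c, hcm, rfl⟩ := List.mem_map.1 hr
        exact eq_one_of_range σ hθ hinj (LHU.row_mem hV1 c hcm) (hk _)
      · obtain ⟨c, hcm, rfl⟩ := List.mem_map.1 hr
        exact eq_one_of_range σ hθ hinj (LNU.row_mem hV2 c hcm) (hk _))
    (by decide +kernel) (by decide +kernel)
  refine ⟨y, hy, fun j hj hne => ?_, ?_⟩
  · have hcov : ∀ j < 39, j ≠ 32 → j ∈ List.range 27 ++ [34] ∨
        ∃ t ∈ combU, unkU.getD t.1.1 0 = j ∧ t.1.2 = 1 := by decide +kernel
    rcases hcov j hj hne with h | ⟨t, htm, htj, ht1⟩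
    · rw [hkeep j h, h0 j h]
    · have := ht t htm
      rwa [htj, ht1, pow_one] at this
  · obtain ⟨t, htm, htj, ht2⟩ : ∃ t ∈ combU, unkU.getD t.1.1 0 = 32 ∧ t.1.2 = 2 := by decide +kernel
    have := ht t htm
    rwa [htj, ht2, pow_two] at this

theorem vecVal_eq_one {z : ℕ → Subgroup.center Γ} {m : ℕ} {ex : ℕ → ℤ}
    (h : ∀ j < m, (z j : Γ) = 1 ∨ ex j = 0) : vecVal z m ex = 1 := by
  rw [vecVal, Finset.prod_eq_one fun j hj => ?_, Subgroup.coe_one]
  rcases h j (Finset.mem_range.1 hj) with h | h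
  · rw [show z j = 1 from Subtype.ext h, one_zpow]
  · rw [h, zpow_zero]

theorem rval_32 (hc : σ.ker ≤ Subgroup.center Γ) (hinj : Function.Injective Cfsg.Agent.Lib.ThP.toTh)
    {y : ℕ → Γ} (hy : IsLift σ y) (h : ∀ j < 39, j ≠ 32 → rval y j = 1)
    (h2 : rval y 32 * rval y 32 = 1) : rval y 32 = 1 := by
  have hu : ∀ j ∈ unkU, j < 39 := by decide
  obtain ⟨θ, hθ, hval⟩ := exists_theta σ hy fun j hj => h j (by omega) (by omega)
  have hz0 : ∀ j ∈ List.range 27 ++ [34], rval y j = 1 := fun j hj => by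
    have hj' : j < 39 ∧ j ≠ 32 := (show ∀ j ∈ List.range 27 ++ [34], j < 39 ∧ j ≠ 32 by decide +kernel) j hj
    exact h j hj'.1 hj'.2
  have hV : LValid LHU.ldata (emPhi LHU.ldata.d.K LHU.emb y) θ.range (zOf y unkU) :=
    lvalid_of_ok (RL := LHU.relList) (HL := LHU.subList) (src := LHU.relSrc) (unk := unkU)
      (zero := List.range 27 ++ [34]) (by decide +kernel) (fun k _ => (zOf_spec σ hc hy hu k).1) hz0
      (sub_mem_range hval (by decide +kernel))
  have hk := LHU.conj_mem hV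
  rw [vecVal_eq_one fun j hj => ?_, mul_one, show LHU.conjWalk.1.1 = pack LHU.conjWord by decide +kernel,
    ev_pack _ _ (by decide +kernel), emPhi_prod _ _ _ _ (by decide +kernel),
    show embWord LHU.emb LHU.conjWord = [15, 6, 4, 6, 14] by decide +kernel] at hk
  swap
  · rcases (show ∀ j < LHU.ldata.m,
        (unkU.getD j 0 < 39 ∧ unkU.getD j 0 ≠ 32) ∨ expo LHU.conjWalk.2 j = 0 by decide +kernel) j hj with
      hj | hj
    · exact Or.inl ((zOf_spec σ hc hy hu j).1.trans (h _ hj.1 hj.2))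
    · exact Or.inr hj
  have hker := hy.rval_mem σ (show 32 < 39 by decide)
  have hcen : ∀ v : Γ, v * rval y 32 = rval y 32 * v := Subgroup.mem_center_iff.1 (hc hker)
  set ε := rval y 32 with hε
  set u := y 7
  set K := wval y [15, 6, 4, 6, 14] with hKdef
  set W := wval y [3, 5, 1, 2] with hWdef
  have e32 : ε = u⁻¹ * W * u * (W⁻¹ * (y 4)⁻¹) := by
    rw [hε, rval, show relators.getD 32 [] = [15, 3, 5, 1, 2, 14, 3, 0, 4, 2, 9] by decide +kernel]
    simp [wval, lphi, hWdef, mul_assoc, u]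
  have hW' : u⁻¹ * W * u = ε * (y 4 * W) := by rw [e32]; group
  have hK' : K = u⁻¹ * wval y [6, 4, 6] * u := by simp [hKdef, wval, lphi, mul_assoc, u]
  have hR : (wval y [6, 4, 6] * W) ^ 3 = 1 := by
    have e : (wval y [6, 4, 6] * W) ^ 3 =
        wval y [6, 4, 6, 3, 5, 1, 2, 6, 4, 6, 3, 5, 1, 2, 6, 4, 6, 3, 5, 1, 2] := by
      simp [hWdef, wval, lphi, mul_assoc, pow_succ']
    rw [e, hval _ (by decide +kernel), Cfsg.Agent.Lib.ThP.wordEq_sound _ [] (by decide +kernel) (by simp)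
      (by decide +kernel)]
    exact map_one θ
  have hmul : K * (y 4 * W) * ε = u⁻¹ * (wval y [6, 4, 6] * W) * u := by
    rw [hcen, ← mul_assoc, ← hcen K, mul_assoc K ε, ← hW', hK']
    group
  have hpow : (K * (y 4 * W)) ^ 3 * ε ^ 3 = 1 := by
    rw [← (show Commute (K * (y 4 * W)) ε from hcen _).mul_pow, hmul,
      show u⁻¹ * (wval y [6, 4, 6] * W) * u = u⁻¹ * (wval y [6, 4, 6] * W) * (u⁻¹)⁻¹ by rw [inv_inv],
      conj_pow, hR]
    group
  have hR3 : (K * (y 4 * W)) ^ 3 ∈ θ.range := by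
    refine pow_mem (mul_mem hk ?_) 3
    have e : y 4 * W = wval y [8, 3, 5, 1, 2] := by simp [hWdef, wval, lphi]
    rw [e]
    exact ⟨_, (hval _ (by decide +kernel)).symm⟩
  have h3 : ε ^ 3 = 1 := by
    refine eq_one_of_range σ hθ hinj ?_ (MonoidHom.mem_ker.1 (pow_mem hker 3))
    rw [eq_inv_of_mul_eq_one_right hpow]
    exact inv_mem hR3
  rwa [pow_succ, pow_two, h2, one_mul] at h3

/-- Lifts satisfying all relators exist in every central extension. -/
theorem exists_exact (hs : Function.Surjective σ) (hc : σ.ker ≤ Subgroup.center Γ)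
    (hinj : Function.Injective Cfsg.Agent.Lib.ThP.toTh) :
    ∃ y : ℕ → Γ, IsLift σ y ∧ ∀ j < 39, rval y j = 1 := by
  obtain ⟨x, hx⟩ : ∃ x : ℕ → Γ, IsLift σ x :=
    ⟨fun i => Function.surjInv hs (th i), fun i _ => Function.surjInv_eq hs _⟩
  obtain ⟨x₁, hx₁, h₁⟩ := stage_P σ hc hinj hx
  obtain ⟨y, hy, h, h2⟩ := stage_U σ hc hinj hx₁ h₁
  refine ⟨y, hy, fun j hj => ?_⟩
  by_cases e : j = 32
  · subst e; exact rval_32 σ hc hinj hy h h2
  · exact h j hj e

/-- The index of a generator. -/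
def genIdx : Cfsg.Spor.Th.Gen → ℕ
  | .a => 0 | .b => 1 | .c => 2 | .d => 3 | .e => 4 | .s => 5 | .t => 6 | .u => 7

theorem gen8_genIdx (g : Cfsg.Spor.Th.Gen) : gen8 (genIdx g) = g ∧ genIdx g < 8 := by
  cases g <;> exact ⟨rfl, by decide⟩

/-- A central extension of the presented Thompson group has a section. -/
theorem exists_section (hs : Function.Surjective σ) (hc : σ.ker ≤ Subgroup.center Γ)
    (hinj : Function.Injective Cfsg.Agent.Lib.ThP.toTh) :
    ∃ τ : Cfsg.Spor.Th →* Γ, σ.comp τ = MonoidHom.id _ := by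
  obtain ⟨y, hy, h⟩ := exists_exact σ hs hc hinj
  have hrel : ∀ r ∈ Cfsg.Agent.Lib.ThP.thRels, FreeGroup.lift (fun g => y (genIdx g)) r = 1 := by
    rintro r (⟨x, hx, -⟩ | hr)
    · simp [Cfsg.Spor.coxNodes, Cfsg.Spor.Th.edges] at hx
    · obtain ⟨j, hj, rfl⟩ := extra_to_relators r hr
      rw [lift_gword]
      have hj' := List.mem_range.1 hj
      rw [← h j hj', rval, wval]
      congr 1
      refine List.map_congr_left fun g hg => ?_
      have := relators_getD_lt j g hg
      have e : ∀ k < 8, genIdx (gen8 k) = k := by decide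
      simp only [lphi, e _ (by omega : g / 2 < 8)]
  refine ⟨PresentedGroup.toGroup hrel, PresentedGroup.ext fun g => ?_⟩
  rw [MonoidHom.comp_apply, PresentedGroup.toGroup.of, hy _ (gen8_genIdx g).2, th, (gen8_genIdx g).1]
  rfl

/-- The presented Thompson group has trivial multiplier, given that it is finite and `P` embeds. -/
theorem multiplier_of [Finite Cfsg.Spor.Th] (hinj : Function.Injective Cfsg.Agent.Lib.ThP.toTh) :
    Cfsg.HasCyclicSchurMultiplier Cfsg.Spor.Th 1 := by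
  refine Multiplier.hasCyclicSchurMultiplier_one_iff.2 fun Δ _ _ ρ hρ => ?_
  obtain ⟨τ, hτ⟩ := exists_section ρ hρ.1 hρ.2.1 hinj
  have hsec : ∀ g, ρ (τ g) = g := fun g => DFunLike.congr_fun hτ g
  have htop : τ.range ⊔ ρ.ker = ⊤ := by
    rw [eq_top_iff]
    intro v _
    have : v = τ (ρ v) * ((τ (ρ v))⁻¹ * v) := by group
    rw [this]
    exact Subgroup.mul_mem_sup ⟨_, rfl⟩ (by rw [MonoidHom.mem_ker, map_mul, map_inv, hsec, inv_mul_cancel])
  have hle : commutator Δ ≤ τ.range :=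
    (Multiplier.commutator_le_of_sup_central _ _ hρ.2.1 htop).trans
      ((Subgroup.commutator_le.2 fun a ha b hb => by
        rw [commutatorElement_def]
        exact mul_mem (mul_mem (mul_mem ha hb) (inv_mem ha)) (inv_mem hb)))
  rw [Subgroup.eq_bot_iff_forall]
  intro v hv
  obtain ⟨g, rfl⟩ := hle (hρ.2.2 hv)
  rw [MonoidHom.mem_ker, hsec] at hv
  rw [hv, map_one]

end Cfsg.Agent.Lib.ThMult
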